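import Cfsg.Agent.S0820
import Cfsg.Agent.Lib.AutCl.PSLOut
import Cfsg.Agent.Lib.GL.Simple

/-!
Facts on `PSL(3, 4)`: centralisers of involutions have exponent `4`, the order of the
automorphism group, and `Aut PSL(3, 4) = Aut PGL(3, 4)`.
-/

set_option autoImplicit false
set_option linter.unusedSectionVars false

namespace H40.E32

open Subgroup Matrix
open scoped MatrixGroups

/-- conjugation of `Aut X` on a normal subgroup in which `Inn X` is characteristic -/
theorem aut_equiv {X : Type*} [Group X] (hZ : center X = ⊥) (R : Subgroup (MulAut X)) [R.Normal]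
    (hI : ∀ x, MulAut.conj x ∈ R)
    (hc : ∀ (γ : MulAut R) (x : X), ∃ y, γ ⟨_, hI x⟩ = ⟨_, hI y⟩) :
    Nonempty (MulAut X ≃* MulAut R) := by
  have inj : ∀ x y : X, (MulAut.conj x : MulAut X) = MulAut.conj y → x = y := fun x y h => by
    have : y⁻¹ * x ∈ center X := mem_center_iff.2 fun g => by
      have := DFunLike.congr_fun h g
      simp only [MulAut.conj_apply] at this
      calc g * (y⁻¹ * x) = y⁻¹ * (y * g * y⁻¹) * x := by group
        _ = y⁻¹ * (x * g * x⁻¹) * x := by rw [this]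
        _ = y⁻¹ * x * g := by group
    rw [hZ, mem_bot] at this
    exact (inv_mul_eq_one.1 this).symm
  have cj : ∀ (β : MulAut X) (x : X), β * MulAut.conj x * β⁻¹ = MulAut.conj (β x) := fun β x => by
    ext y
    simp
  refine ⟨MulEquiv.ofBijective (MulAut.conjNormal : MulAut X →* MulAut R) ⟨?_, fun γ => ?_⟩⟩
  · refine (injective_iff_map_eq_one _).2 fun β hβ => MulEquiv.ext fun x => inj _ _ ?_
    have := congrArg Subtype.val (DFunLike.congr_fun hβ ⟨_, hI x⟩)
    rw [← cj]
    exact this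
  · choose f hf using hc
    have m : ∀ x y, (⟨_, hI (x * y)⟩ : R) = ⟨_, hI x⟩ * ⟨_, hI y⟩ := fun x y =>
      Subtype.ext (map_mul _ x y)
    let β : MulAut X :=
      { toFun := f γ
        invFun := f γ⁻¹
        left_inv := fun x => inj _ _ (congrArg Subtype.val (by
          have := hf γ⁻¹ (f γ x)
          rw [← hf γ x, MulAut.inv_apply_self] at this
          exact this.symm : (⟨_, hI _⟩ : R) = ⟨_, hI _⟩))
        right_inv := fun x => inj _ _ (congrArg Subtype.val (by
          have := hf γ (f γ⁻¹ x)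
          rw [← hf γ⁻¹ x, MulAut.apply_inv_self] at this
          exact this.symm : (⟨_, hI _⟩ : R) = ⟨_, hI _⟩))
        map_mul' := fun x y => inj _ _ (congrArg Subtype.val (by
          rw [← hf γ, m, map_mul, hf, hf, m] : (⟨_, hI _⟩ : R) = ⟨_, hI _⟩)) }
    refine ⟨β, MulEquiv.ext fun r => Subtype.ext (MulEquiv.ext fun x => ?_)⟩
    obtain ⟨x, rfl⟩ := β.surjective x
    change β ((r : MulAut X) (β⁻¹ (β x))) = _
    rw [MulAut.inv_apply_self]
    refine inj _ _ ?_
    have e : (⟨_, hI ((r : MulAut X) x)⟩ : R) = r * ⟨_, hI x⟩ * r⁻¹ := Subtype.ext (cj _ _).symm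
    have h1 := hf γ ((r : MulAut X) x)
    rw [e, map_mul, map_mul, map_inv, hf] at h1
    rw [← cj (γ r : MulAut X)]
    exact (congrArg Subtype.val h1).symm

variable {F : Type*} [Field F] [Fintype F]

theorem card_psl (hF : Fintype.card F = 4) : Nat.card PSL(3, F) = 20160 := by
  have := H10.card_PSL_fin (F := F) 3 (by omega)
  rw [Nat.card_eq_fintype_card (α := F), hF, Fin.prod_univ_three] at this
  norm_num at this
  omega

theorem card_aut (hF : Fintype.card F = 4) : Nat.card (MulAut PSL(3, F)) = 241920 := by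
  have h4 : Nat.card F = 2 ^ 2 := by rw [Nat.card_eq_fintype_card, hF]; rfl
  have h1 := H67.card_aut_psl_three (ι := Fin 3) h4 (by simp)
  have h2 := H10.card_SL_fin (F := F) 3 (by omega)
  rw [← H10.card_PGL_eq_card_SL, h4, Fin.prod_univ_three] at h2
  norm_num at h2
  omega

theorem center_psl : center PSL(3, F) = ⊥ := by
  have := H10.isSimpleGroup_PSL_fin (F := F) 3 (by omega) (by omega)
  refine (IsSimpleGroup.eq_bot_or_eq_top_of_normal _ inferInstance).resolve_right fun h => ?_
  have h1 := map_commutator_eq _ (QuotientGroup.mk' (center SL(3, F)))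
  rw [H10.commutator_SL_fin_eq_top 3 (by omega), QuotientGroup.range_mk',
    map_top_of_surjective _ (QuotientGroup.mk'_surjective _)] at h1
  have h2 := (commutator_eq_bot_iff_center_eq_top PSL(3, F)).2 h
  exact top_ne_bot (h1.trans h2)

theorem aut_psl_pgl :
    Nonempty (MulAut PSL(3, F) ≃* MulAut (GL (Fin 3) F ⧸ center (GL (Fin 3) F))) := by
  have := H67.normal_range_pslInn (ι := Fin 3) (F := F) (by simp)
  let ψ := (QuotientGroup.quotientMulEquivOfEq (H67.ker_pslInn (ι := Fin 3) (F := F)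
    (by simp)).symm).trans (QuotientGroup.quotientKerEquivRange _)
  have hI : ∀ x : PSL(3, F), MulAut.conj x ∈ (H67.pslInn (Fin 3) F).range := fun x => by
    obtain ⟨s, rfl⟩ := QuotientGroup.mk_surjective x
    exact ⟨_, H67.pslInn_toGL s⟩
  have h1 := map_commutator_eq _ (H67.pslInn (Fin 3) F).rangeRestrict
  rw [H10.commutator_GL_eq_ker_det (by simp), MonoidHom.range_eq_top.2
    (H67.pslInn (Fin 3) F).rangeRestrict_surjective] at h1
  have h2 : ∀ r : (H67.pslInn (Fin 3) F).range, r ∈ commutator _ ↔ ∃ y, r = ⟨_, hI y⟩ := fun r => by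
    rw [_root_.commutator, ← h1]
    constructor
    · rintro ⟨g, hg, rfl⟩
      obtain ⟨y, hy⟩ : H67.pslInn (Fin 3) F g ∈ Cfsg.Inn PSL(3, F) :=
        by
        rw [H67.inn_psl_eq]
        exact mem_map_of_mem _ hg
      exact ⟨y, Subtype.ext hy.symm⟩
    · rintro ⟨y, rfl⟩
      obtain ⟨g, hg, e⟩ : MulAut.conj y ∈ ((GeneralLinearGroup.det : GL (Fin 3) F →* Fˣ).ker).map
        (H67.pslInn (Fin 3) F) := by
        rw [← H67.inn_psl_eq]
        exact ⟨y, rfl⟩
      exact ⟨g, hg, Subtype.ext e⟩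
  obtain ⟨e⟩ := aut_equiv center_psl (H67.pslInn (Fin 3) F).range hI fun γ x => (h2 _).1
    ((characteristic_iff_le_comap.1 inferInstance γ) ((h2 _).2 ⟨x, rfl⟩))
  exact ⟨e.trans (MulAut.congr ψ.symm)⟩

theorem pow4 (hF : Fintype.card F = 4) {t y : PSL(3, F)} (ht : orderOf t = 2)
    (hy : y * t = t * y) : y ^ 4 = 1 := by
  have h2 : (2 : F) = 0 := by
    have := FiniteField.cast_card_eq_zero F
    rw [hF] at this
    have h4 : (2 : F) * 2 = 0 := by rw [← this]; norm_num
    exact mul_self_eq_zero.mp h4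
  let T : SL(3, F) := ⟨!![1, 0, 1; 0, 1, 0; 0, 0, 1], by simp [det_fin_three]⟩
  have hT : orderOf (T : PSL(3, F)) = 2 := by
    refine orderOf_eq_prime ?_ fun h => ?_
    · rw [← QuotientGroup.mk_pow]
      have : T ^ 2 = 1 := Subtype.ext (by
        rw [pow_two, Matrix.SpecialLinearGroup.coe_mul]
        ext i j
        fin_cases i <;> fin_cases j <;> simp [T, Matrix.mul_apply, Fin.sum_univ_three]
        linear_combination h2)
      rw [this]
      rfl
    · obtain ⟨r, -, e⟩ := Matrix.SpecialLinearGroup.mem_center_iff.1 ((QuotientGroup.eq_one_iff _).1 h)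
      have := congrFun (congrFun e 0) 2
      simp [T] at this
  obtain ⟨c, rfl⟩ := isConj_iff.1 (Cfsg.Agent.S0820.result hF _ t hT ht)
  obtain ⟨Y, hY⟩ := QuotientGroup.mk_surjective (c⁻¹ * y * c)
  have h1 : (Y : PSL(3, F)) * T = T * Y := by
    rw [hY]
    calc c⁻¹ * y * c * T = c⁻¹ * (y * (c * T * c⁻¹)) * c := by group
      _ = _ := by rw [hy]; group
  suffices h : (Y : PSL(3, F)) ^ 4 = 1 by
    rw [hY] at h
    calc y ^ 4 = c * (c⁻¹ * y * c) ^ 4 * c⁻¹ := by simp [pow_succ, mul_assoc]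
      _ = 1 := by rw [h]; group
  rw [← QuotientGroup.mk_mul, ← QuotientGroup.mk_mul, QuotientGroup.eq] at h1
  obtain ⟨r, hr, e⟩ := Matrix.SpecialLinearGroup.mem_center_iff.1 h1
  have e1 : T.1 * Y.1 = Y.1 * T.1 * scalar (Fin 3) r := by
    rw [e, ← Matrix.SpecialLinearGroup.coe_mul, ← Matrix.SpecialLinearGroup.coe_mul, ← Matrix.SpecialLinearGroup.coe_mul,
      mul_inv_cancel_left]
  have hd := Y.2
  rw [det_fin_three] at hd
  have E := fun i j => congrFun (congrFun e1 i) j
  have E00 := E 0 0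
  have E01 := E 0 1
  have E02 := E 0 2
  have E10 := E 1 0
  have E11 := E 1 1
  have E12 := E 1 2
  have E20 := E 2 0
  have E21 := E 2 1
  have E22 := E 2 2
  simp [T, Matrix.mul_apply, Fin.sum_univ_three, diagonal] at E00 E01 E02 E10 E11 E12 E20 E21 E22
  obtain rfl : r = 1 := by
    by_contra hr1
    have hr1 : 1 - r ≠ 0 := sub_ne_zero.2 (Ne.symm hr1)
    have a0 : Y.1 1 0 = 0 := (mul_eq_zero.1 (by linear_combination E10)).resolve_right hr1
    have a1 : Y.1 1 1 = 0 := (mul_eq_zero.1 (by linear_combination E11)).resolve_right hr1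
    have a2 : Y.1 1 2 = 0 :=
      (mul_eq_zero.1 (by linear_combination E12 + r * a0)).resolve_right hr1
    rw [a0, a1, a2] at hd
    simp at hd
  have a20 : Y.1 2 0 = 0 := by linear_combination E00
  have a21 : Y.1 2 1 = 0 := by linear_combination E01
  have a22 : Y.1 2 2 = Y.1 0 0 := by linear_combination E02
  have a10 : Y.1 1 0 = 0 := by linear_combination -E12
  rw [a20, a21, a22, a10] at hd
  have hd : Y.1 0 0 * Y.1 1 1 * Y.1 0 0 = 1 := by linear_combination hd
  have h0 : Y.1 0 0 ≠ 0 := fun h => by simp [h] at hd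
  have h3 : Y.1 0 0 ^ 3 = 1 := by
    have := FiniteField.pow_card_sub_one_eq_one _ h0
    rwa [hF] at this
  have a11 : Y.1 1 1 = Y.1 0 0 := by linear_combination Y.1 0 0 * hd - Y.1 1 1 * h3
  rw [← QuotientGroup.mk_pow, QuotientGroup.eq_one_iff]
  refine Matrix.SpecialLinearGroup.mem_center_iff.2 ⟨Y.1 0 0, by simpa using h3, ?_⟩
  have eY : Y.1 = !![Y.1 0 0, Y.1 0 1, Y.1 0 2; 0, Y.1 0 0, Y.1 1 2; 0, 0, Y.1 0 0] := by
    ext i j
    fin_cases i <;> fin_cases j <;> simp [a20, a21, a22, a10, a11]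
  rw [Matrix.SpecialLinearGroup.coe_pow, eY]
  generalize Y.1 0 0 = p at h3
  generalize Y.1 0 1 = q
  generalize Y.1 0 2 = s
  generalize Y.1 1 2 = w
  ext i j
  fin_cases i <;> fin_cases j <;> simp [pow_succ, Matrix.mul_apply, Fin.sum_univ_three]
  · linear_combination -p * h3
  · linear_combination -2 * p ^ 3 * q * h2
  · linear_combination -(2 * p ^ 3 * s + 3 * p ^ 2 * q * w) * h2
  · linear_combination -p * h3
  · linear_combination -2 * p ^ 3 * w * h2
  · linear_combination -p * h3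

end H40.E32
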