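import Cfsg.Agent.Lib.CosetEnum.TC
set_option autoImplicit false
set_option maxRecDepth 100000
namespace T54.E32E
open H54 (Tr force band)
open H18.TC
noncomputable def T_0 : Tr := (.node (nat_lit 1) (.node (nat_lit 0) (.leaf (nat_lit 0x70000a0acaae0ff853511f000e000142c34bc33205f81fd00e00001bfd7aa9ead3ac46d802a0001a2d19fca2e32bc837007000072c093109fc3b212e000e000123342d063503fc239000000044d87b710e01b901fc000000073a1aec2bc04f40be)) (.leaf (nat_lit 0xa800071f1b626fda1a89aac01c00025a323f08772ca49ae00700007494ea70be437c16d403800011fd5291da549d932c00700005a9907d3b9cff73dbc00e00021282ea45fd13e057200e000043f99ad70c12b345e802a000182a1df88b140d07fb))) (.node (nat_lit 2) (.leaf (nat_lit 0x83d622081b21707f9400e0001f212dd4c2f2bc4da700380005fdd77a6a896e462b402a00027f8978e77a9b9667000000004fe562682a137a4bcc00000019fb65da523639986a00000006c88a7827ece2725c401c000152433e4be931ecfb4)) (.leaf (nat_lit 0xa80008d9e1e88b92423898402a0001ee97795e667e8a2a000700006bb9bb069a9f61928c00e000257198ae4ed8f8246200a800053bd4738c8172a56980380001cf27885d739cae028000000059d15ec7a8592d559000000023a039c8f3437b8d69))))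
noncomputable def J_0 : Tr := (.node (nat_lit 1) (.node (nat_lit 0) (.leaf (nat_lit 0x1001000000c0000000000002002001000400400000000000000000008008000000000000000000100100000000000000000002002000000000000000000040040000000000000000000)) (.leaf (nat_lit 0x12002001000000000000000140040000000000000001001000800000100100000000060000000000005001000800c000000000000a002001000400400000000000100000008008000000002))) (.node (nat_lit 2) (.leaf (nat_lit 0x400000300240040000000018002002000000000c0060008008000000002800800400a002000000400000000140040000010008000005001000000000200300040040000000024004002000)) (.leaf (nat_lit 0xa0020010000008000004800800400000000000140010010018000000003000000a002001000000a00200000000000010010000010000000000000400200000040040000000008000005001))))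
noncomputable def F_0 : Tr := (.node (nat_lit 1) (.node (nat_lit 0) (.leaf (nat_lit 0xf7f9dcdf76d624f655cba4553834a41892839801)) (.leaf (nat_lit 0xe77dfad2517bb7a2e704bd86941d8b50670680c2))) (.node (nat_lit 2) (.leaf (nat_lit 0xde6b2fb3cb9c3a5bf0964a0dac09ee0b691028e3)) (.node (nat_lit 3) (.leaf (nat_lit 0xbe9f467a6dfa8bcca4e6e8f1b15a418c2a072d04)) (.leaf (nat_lit 0xc5a2e8357f57907313bb1f342cdc35a4c127b125)))))
noncomputable def T : Tr := T_0
noncomputable def J : Tr := J_0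
noncomputable def F : Tr := F_0
noncomputable def row (u : ℕ) : ℕ := Nat.land (Nat.shiftRight (force (Nat.shiftRight u (nat_lit 3)) T.get) (Nat.mul (Nat.land u (nat_lit 7)) (nat_lit 98))) (nat_lit 0x3ffffffffffffffffffffffff)
noncomputable def jrow (u : ℕ) : ℕ := Nat.land (Nat.shiftRight (force (Nat.shiftRight u (nat_lit 3)) J.get) (Nat.mul (Nat.land u (nat_lit 7)) (nat_lit 78))) (nat_lit 0x3fffffffffffffffffff)
noncomputable def fget (k fx : ℕ) : ℕ := F.get (Nat.add k fx)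
noncomputable def wt0 : LT := (.node (nat_lit 2) (.node (nat_lit 0) (.leaf 11 0 [nat_lit 14, nat_lit 0, nat_lit 14])
(.node (nat_lit 1) (.leaf 15 0 [nat_lit 42, nat_lit 0, nat_lit 42])
(.leaf 13 0 [nat_lit 28, nat_lit 0, nat_lit 28])))
(.node (nat_lit 3) (.leaf 17 0 [nat_lit 56, nat_lit 0, nat_lit 56])
(.leaf 0 0 [])))
noncomputable def wt1 : LT := (.node (nat_lit 2) (.node (nat_lit 0) (.leaf 19 3 [nat_lit 28, nat_lit 14, nat_lit 0, nat_lit 28])
(.node (nat_lit 1) (.leaf 11 3 [nat_lit 0, nat_lit 14, nat_lit 0])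
(.leaf 23 3 [nat_lit 56, nat_lit 14, nat_lit 0, nat_lit 56])))
(.node (nat_lit 4) (.node (nat_lit 3) (.leaf 19 0 [nat_lit 0, nat_lit 28, nat_lit 14, nat_lit 28])
(.leaf 21 3 [nat_lit 42, nat_lit 14, nat_lit 0, nat_lit 42]))
(.leaf 0 0 [])))
noncomputable def wt2 : LT := (.node (nat_lit 2) (.node (nat_lit 0) (.leaf 25 3 [nat_lit 42, nat_lit 28, nat_lit 0, nat_lit 42])
(.node (nat_lit 1) (.leaf 19 4 [nat_lit 14, nat_lit 0, nat_lit 28, nat_lit 14])
(.leaf 13 3 [nat_lit 0, nat_lit 28, nat_lit 0])))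
(.node (nat_lit 3) (.leaf 27 3 [nat_lit 56, nat_lit 28, nat_lit 0, nat_lit 56])
(.leaf 0 0 [])))
noncomputable def wt3 : LT := (.node (nat_lit 2) (.node (nat_lit 0) (.leaf 15 3 [nat_lit 0, nat_lit 42, nat_lit 0])
(.node (nat_lit 1) (.leaf 25 4 [nat_lit 28, nat_lit 0, nat_lit 42, nat_lit 28])
(.leaf 21 4 [nat_lit 14, nat_lit 0, nat_lit 42, nat_lit 14])))
(.node (nat_lit 3) (.leaf 25 2 [nat_lit 28, nat_lit 42, nat_lit 28, nat_lit 0])
(.leaf 0 0 [])))
noncomputable def wt4 : LT := (.node (nat_lit 2) (.node (nat_lit 0) (.leaf 17 3 [nat_lit 0, nat_lit 56, nat_lit 0])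
(.node (nat_lit 1) (.leaf 29 4 [nat_lit 42, nat_lit 0, nat_lit 56, nat_lit 42])
(.leaf 23 4 [nat_lit 14, nat_lit 0, nat_lit 56, nat_lit 14])))
(.node (nat_lit 4) (.node (nat_lit 3) (.leaf 29 2 [nat_lit 42, nat_lit 56, nat_lit 42, nat_lit 0])
(.leaf 27 4 [nat_lit 28, nat_lit 0, nat_lit 56, nat_lit 28]))
(.leaf 0 0 [])))
noncomputable def wt5 : LT := (.leaf 0 0 [])
noncomputable def sl : List (ℕ × ℕ × List ℕ × List ℕ) := []
/-- the inverse column -/
noncomputable def icol (x : ℕ) : ℕ := x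
noncomputable def inv (x : ℕ) : ℕ := x
def cols : List ℕ := [nat_lit 70, nat_lit 0, nat_lit 14, nat_lit 28, nat_lit 42, nat_lit 56]
noncomputable def cl : CL := (.cons (nat_lit 0) (nat_lit 0) (nat_lit 0) (nat_lit 0) wt0
(.cons (nat_lit 14) (nat_lit 14) (nat_lit 13) (nat_lit 1) wt1
(.cons (nat_lit 28) (nat_lit 28) (nat_lit 26) (nat_lit 2) wt2
(.cons (nat_lit 42) (nat_lit 42) (nat_lit 39) (nat_lit 3) wt3
(.cons (nat_lit 56) (nat_lit 56) (nat_lit 52) (nat_lit 4) wt4
.nil)))))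
def rels : List (List ℕ) := [[0, 0],
[1, 1],
[2, 2],
[3, 3],
[4, 4],
[0, 1, 0, 1],
[0, 2, 0, 2],
[0, 3, 0, 3],
[0, 4, 0, 4],
[1, 2, 1, 2, 0],
[1, 3, 1, 3, 0],
[1, 4, 1, 4, 0],
[2, 3, 2, 3, 0],
[2, 4, 2, 4, 0],
[3, 4, 3, 4, 0]]
def subs : List (List ℕ) := []
noncomputable def chk : ℕ → Bool := rowChk row jrow fget sl cols (nat_lit 32) (nat_lit 32) (nat_lit 16383) (nat_lit 63) (nat_lit 16384) (nat_lit 70) (nat_lit 84) (nat_lit 8191) (nat_lit 6) (nat_lit 63) (nat_lit 5) (nat_lit 31) cl (nat_lit 65) wt5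
theorem p0 : allB chk 5 0 = true := by decide +kernel
theorem all_chk : AllLt chk 32 := by
  have h := AllLt.zero chk
  have h := h.step 32 p0 (by decide +kernel)
  exact h
/-- column `x` of the final table -/
noncomputable def tab (x u : ℕ) : ℕ := ft fget (nat_lit 6) (nat_lit 63) (nat_lit 5) (nat_lit 31) (Nat.mul x (nat_lit 1)) u
theorem enum {G Ω : Type*} [Group G] [MulAction G Ω] (g : ℕ → G) (ω : Ω)
    (hinv : ∀ x, g (icol x) = (g x)⁻¹) (h1 : g 5 = 1)
    (hrels : ∀ R ∈ rels, ev g R = 1) (hsubs : ∀ S ∈ subs, ev g S • ω = ω) :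
    ∃ pt : ℕ → Ω, pt 0 = ω ∧ (∀ K : Subgroup G, (∀ x, g x ∈ K) → ∀ v, ∃ k ∈ K, pt v = k • ω) ∧
      ∀ x, x < 5 → ∀ u, u < 32 → tab x u < 32 ∧ g x • pt u = pt (tab x u) :=
  sound_scaled g ω row jrow fget sl inv icol cols (nat_lit 32) (nat_lit 32) (nat_lit 16383) (nat_lit 63) (nat_lit 16384) (nat_lit 70) (nat_lit 84) (nat_lit 8191) (nat_lit 6) (nat_lit 63) (nat_lit 5) (nat_lit 31) 6 cl (nat_lit 65) wt5 rels subs 14 (nat_lit 1) 5
    (fun _ => rfl) hinv h1 hrels hsubs
    (by decide +kernel) (by decide +kernel) all_chk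
end T54.E32E
namespace T54.E32H00
open H54 (Tr force band)
open H18.TC
noncomputable def T_0 : Tr := (.node (nat_lit 0) (.leaf (nat_lit 0x2d8000efaa724a9a0e10307f83ec1ee00820004399d58afa63930c97e4bb25b902d80006fcb9422e10e88343fa1ed0ee809c00063a9278cec55b29d946c9f64db02d800053e99723d0d7067831c17e0b7009c0003cc06fcb3227d12e88f443a1fd02080007344bb06f86782fc15e09f047800000015e07741fc0bf04f81fc0be03f)) (.node (nat_lit 1) (.leaf (nat_lit 0x2d8001cad06b79abc41de0ed07583a40082000c064d3a2ef231908c7c63a31b1027000166ea58be62c495e4ad25592a480b600042cbe35270913479a34d1668930270001a9eb7a93730d1828bf45ea2ed00b600062db8bdea0d1567ab35596ac950208001ce073932d9c58dec6d635b1a5809c0005a925f2322a3750ba7dd3ae9b7)) (.leaf (nat_lit 0x208002d5356aa45d522a51508a745320082000b445bb2b5b669b24d8a6c135e9020800289d5889b7d0aa8153ea9e54ea809c000896c14295110b875c32e15708b0270002fe36c9bd95e32ed974cb965c3009c0008a5bdceb9302d806bfb5f9afad02080028d533192a4c3a5dd2ce9574a380b600069a3856714def6e7b6bdb1ed6f))))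
noncomputable def J_0 : Tr := (.node (nat_lit 0) (.leaf (nat_lit 0x4004000000001800c0060030018000000000800800400200100080040010010000004006003001800c006000000400400000200100080040020004004000000001800c00600300180000010010000008004002001000800000000040040020010008004002000000000000102680f405a01d006)) (.node (nat_lit 1) (.leaf (nat_lit 0x4004000001001800c006003001800000000080080040020010008004000001800800000400200100080040008008000002003001800c006003000000200200000100080040020010002002000000000c006003001800c000000000c004002001000800400200000040040000020010008004002)) (.leaf (nat_lit 0x3001000800400200100080000040008008004002001000800400000200040040020010008004002000000c004000002001000800400200000060020020010008004002001000000100100000080040020010008000000000c00400200100080040020008008008000003001800c006003))))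
noncomputable def F_0 : Tr := (.node (nat_lit 3) (.node (nat_lit 1) (.node (nat_lit 0) (.leaf (nat_lit 0xbdab49ca307b9ac5a928398a418820)) (.leaf (nat_lit 0xbdab49ca307b9ac5a928398a418820))) (.node (nat_lit 2) (.leaf (nat_lit 0xbdab49ca307b9ac5a928398a418820)) (.leaf (nat_lit 0xbdab49ca307b9ac5a928398a418820)))) (.node (nat_lit 5) (.node (nat_lit 4) (.leaf (nat_lit 0xbdab49ca307b9ac5a928398a418820)) (.leaf (nat_lit 0xa4a176d975522678bc8e6086929801))) (.node (nat_lit 6) (.leaf (nat_lit 0xaceefb31caa44f22c0c36a56140082)) (.leaf (nat_lit 0xb5e32752ab4cd06811ed1302a01ca3)))))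
noncomputable def T : Tr := T_0
noncomputable def J : Tr := J_0
noncomputable def F : Tr := F_0
noncomputable def row (u : ℕ) : ℕ := Nat.land (Nat.shiftRight (force (Nat.shiftRight u (nat_lit 3)) T.get) (Nat.mul (Nat.land u (nat_lit 7)) (nat_lit 130))) (nat_lit 0x3ffffffffffffffffffffffffffffffff)
noncomputable def jrow (u : ℕ) : ℕ := Nat.land (Nat.shiftRight (force (Nat.shiftRight u (nat_lit 3)) J.get) (Nat.mul (Nat.land u (nat_lit 7)) (nat_lit 117))) (nat_lit 0x1fffffffffffffffffffffffffffff)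
noncomputable def fget (k fx : ℕ) : ℕ := F.get (Nat.add k fx)
noncomputable def wt0 : LT := (.node (nat_lit 1) (.node (nat_lit 0) (.leaf 31 3 [nat_lit 65, nat_lit 0, nat_lit 65])
(.leaf 33 3 [nat_lit 78, nat_lit 0, nat_lit 78]))
(.node (nat_lit 2) (.leaf 35 3 [nat_lit 91, nat_lit 0, nat_lit 91])
(.leaf 0 0 [])))
noncomputable def wt1 : LT := (.node (nat_lit 1) (.node (nat_lit 0) (.leaf 37 3 [nat_lit 65, nat_lit 26, nat_lit 65])
(.leaf 45 3 [nat_lit 78, nat_lit 13, nat_lit 78]))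
(.node (nat_lit 2) (.leaf 53 3 [nat_lit 91, nat_lit 13, nat_lit 91])
(.leaf 0 0 [])))
noncomputable def wt2 : LT := (.node (nat_lit 1) (.node (nat_lit 0) (.leaf 37 1 [nat_lit 65, nat_lit 13, nat_lit 65])
(.leaf 47 3 [nat_lit 78, nat_lit 39, nat_lit 78]))
(.node (nat_lit 2) (.leaf 55 3 [nat_lit 91, nat_lit 26, nat_lit 91])
(.leaf 0 0 [])))
noncomputable def wt3 : LT := (.node (nat_lit 1) (.node (nat_lit 0) (.leaf 41 3 [nat_lit 65, nat_lit 39, nat_lit 65])
(.leaf 47 1 [nat_lit 78, nat_lit 26, nat_lit 78]))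
(.node (nat_lit 2) (.leaf 57 3 [nat_lit 91, nat_lit 52, nat_lit 91])
(.leaf 0 0 [])))
noncomputable def wt4 : LT := (.node (nat_lit 1) (.node (nat_lit 0) (.leaf 43 3 [nat_lit 65, nat_lit 52, nat_lit 65])
(.leaf 51 3 [nat_lit 78, nat_lit 52, nat_lit 78]))
(.node (nat_lit 2) (.leaf 57 1 [nat_lit 91, nat_lit 39, nat_lit 91])
(.leaf 0 0 [])))
noncomputable def wt5 : LT := (.node (nat_lit 1) (.node (nat_lit 0) (.leaf 71 0 [nat_lit 91, nat_lit 65, nat_lit 91])
(.leaf 61 0 [nat_lit 78, nat_lit 65, nat_lit 78, nat_lit 65, nat_lit 78]))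
(.leaf 0 0 []))
noncomputable def wt6 : LT := (.node (nat_lit 1) (.node (nat_lit 0) (.leaf 61 5 [nat_lit 65, nat_lit 78, nat_lit 65, nat_lit 78, nat_lit 65])
(.leaf 63 0 [nat_lit 91, nat_lit 78, nat_lit 91, nat_lit 78, nat_lit 91]))
(.leaf 0 0 []))
noncomputable def wt7 : LT := (.node (nat_lit 1) (.node (nat_lit 0) (.leaf 63 5 [nat_lit 78, nat_lit 91, nat_lit 78, nat_lit 91, nat_lit 78])
(.leaf 71 3 [nat_lit 65, nat_lit 91, nat_lit 65]))
(.leaf 0 0 []))
noncomputable def wt8 : LT := (.leaf 0 0 [])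
noncomputable def sl : List (ℕ × ℕ × List ℕ × List ℕ) := [(0, nat_lit 0, [], []),
(2, nat_lit 13, [], []),
(4, nat_lit 26, [], []),
(6, nat_lit 39, [], []),
(8, nat_lit 52, [], [])]
/-- the inverse column -/
noncomputable def icol (x : ℕ) : ℕ := x
noncomputable def inv (x : ℕ) : ℕ := x
def cols : List ℕ := [nat_lit 104, nat_lit 0, nat_lit 13, nat_lit 26, nat_lit 39, nat_lit 52, nat_lit 65, nat_lit 78, nat_lit 91]
noncomputable def cl : CL := (.cons (nat_lit 0) (nat_lit 0) (nat_lit 0) (nat_lit 0) wt0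
(.cons (nat_lit 13) (nat_lit 13) (nat_lit 13) (nat_lit 1) wt1
(.cons (nat_lit 26) (nat_lit 26) (nat_lit 26) (nat_lit 2) wt2
(.cons (nat_lit 39) (nat_lit 39) (nat_lit 39) (nat_lit 3) wt3
(.cons (nat_lit 52) (nat_lit 52) (nat_lit 52) (nat_lit 4) wt4
(.cons (nat_lit 65) (nat_lit 65) (nat_lit 65) (nat_lit 5) wt5
(.cons (nat_lit 78) (nat_lit 78) (nat_lit 78) (nat_lit 6) wt6
(.cons (nat_lit 91) (nat_lit 91) (nat_lit 91) (nat_lit 7) wt7
.nil))))))))
def rels : List (List ℕ) := [[0, 0],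
[1, 1],
[2, 2],
[3, 3],
[4, 4],
[0, 1, 0, 1],
[0, 2, 0, 2],
[0, 3, 0, 3],
[0, 4, 0, 4],
[1, 2, 1, 2, 0],
[1, 3, 1, 3, 0],
[1, 4, 1, 4, 0],
[2, 3, 2, 3, 0],
[2, 4, 2, 4, 0],
[3, 4, 3, 4, 0],
[5, 0, 5, 0],
[6, 0, 6, 0],
[7, 0, 7, 0],
[5, 1, 5, 2],
[5, 2, 5, 1],
[5, 3, 5, 3],
[5, 4, 5, 4],
[6, 1, 6, 1],
[6, 2, 6, 3],
[6, 3, 6, 2],
[6, 4, 6, 4],
[7, 1, 7, 1],
[7, 2, 7, 2],
[7, 3, 7, 4],
[7, 4, 7, 3],
[5, 6, 5, 6, 5, 6],
[6, 7, 6, 7, 6, 7],
[5, 5],
[6, 6],
[7, 7],
[5, 7, 5, 7]]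
def subs : List (List ℕ) := [[0],
[1],
[2],
[3],
[4]]
noncomputable def chk : ℕ → Bool := rowChk row jrow fget sl cols (nat_lit 24) (nat_lit 24) (nat_lit 8191) (nat_lit 31) (nat_lit 8192) (nat_lit 104) (nat_lit 117) (nat_lit 8191) (nat_lit 6) (nat_lit 63) (nat_lit 5) (nat_lit 31) cl (nat_lit 104) wt8
theorem p0 : allB chk 5 0 = true := by decide +kernel
theorem all_chk : AllLt chk 24 := by
  have h := AllLt.zero chk
  have h := h.step 24 p0 (by decide +kernel)
  exact h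
/-- column `x` of the final table -/
noncomputable def tab (x u : ℕ) : ℕ := ft fget (nat_lit 6) (nat_lit 63) (nat_lit 5) (nat_lit 31) (Nat.mul x (nat_lit 1)) u
theorem enum {G Ω : Type*} [Group G] [MulAction G Ω] (g : ℕ → G) (ω : Ω)
    (hinv : ∀ x, g (icol x) = (g x)⁻¹) (h1 : g 8 = 1)
    (hrels : ∀ R ∈ rels, ev g R = 1) (hsubs : ∀ S ∈ subs, ev g S • ω = ω) :
    ∃ pt : ℕ → Ω, pt 0 = ω ∧ (∀ K : Subgroup G, (∀ x, g x ∈ K) → ∀ v, ∃ k ∈ K, pt v = k • ω) ∧
      ∀ x, x < 8 → ∀ u, u < 24 → tab x u < 24 ∧ g x • pt u = pt (tab x u) :=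
  sound_scaled g ω row jrow fget sl inv icol cols (nat_lit 24) (nat_lit 24) (nat_lit 8191) (nat_lit 31) (nat_lit 8192) (nat_lit 104) (nat_lit 117) (nat_lit 8191) (nat_lit 6) (nat_lit 63) (nat_lit 5) (nat_lit 31) 5 cl (nat_lit 104) wt8 rels subs 13 (nat_lit 1) 8
    (fun _ => rfl) hinv h1 hrels hsubs
    (by decide +kernel) (by decide +kernel) all_chk
end T54.E32H00
namespace T54.E32H01
open H54 (Tr force band)
open H18.TC
noncomputable def T_0 : Tr := (.node (nat_lit 0) (.leaf (nat_lit 0x2d8000efaa72439a0e10307f83ec1ee00820004a99d58afa63930c97e4bb25b902080008bcb941be10e88343fa1ed0ee809c00063a9278cec55b29d946c9f64db02d800053e9971cd0d7067831c17e0b7009c0003cc06fcb3227d12e88f443a1fd02080008f44bb06f86782fc15e09f047800000015e07741fc0bf04f81fc0be03f)) (.node (nat_lit 1) (.leaf (nat_lit 0x208001c2d06b69ab7c1ba0db06c835c00820009a6603a2ef231908c7c63a31b1027000166ea589362c495e4ad25592a4808200049cbe350b0913479a34d1668930270001cdeb7ab7730d1828bf45ea2ed00b600062dbd3daa0d1567ab35596ac950208001c6073932d9c58dec6d635b1a5809c0005a925f2322a3750ba7dd3ae9b7))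 (.leaf (nat_lit 0x208002ad36aaa45d522a51508a745320082000ac451326db429a04cfa67933a90208002f9d688ad7d9aac9562ab0557a809c000896c14295110b875c32e15708b02080026634699294c325d92cc9564a3009c0008a5bdce71302d806bfb5f9afad0208002f557f1b6a5e3aedd74eb975c380b600072a3cd6b94f0f777bb3dd5ee8f))))
noncomputable def J_0 : Tr := (.node (nat_lit 0) (.leaf (nat_lit 0x4004000000001800c00600300180000000008008004002001000800400000100040040020010008004002000000400400000200100080040020004004000000001800c00600300180000010010000008004002001000800000000040040020010008004002000000000000102680f405a01d006)) (.node (nat_lit 1) (.leaf (nat_lit 0x400100100080040020010008000000000800800400200100080040000028008000004002001000800400000080020020010008004002001000000200200000100080040020010002002000000000c006003001800c000000000c004002001000800400200000040040000020010008004002)) (.leaf (nat_lit 0x40010010008004002001000800000000180080040020010008004000000000c00400200100080040020000014004000002001000800400200000040010010008004002001000800000100100000080040020010008000001000c00400200100080040020008008008000003001800c006003))))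
noncomputable def F_0 : Tr := (.node (nat_lit 3) (.node (nat_lit 1) (.node (nat_lit 0) (.leaf (nat_lit 0xbdab49ca307b9ac5a928398a418820)) (.leaf (nat_lit 0xbdab49ca307b9ac5a928398a418820))) (.node (nat_lit 2) (.leaf (nat_lit 0xbdab49ca307b9ac5a928398a418820)) (.leaf (nat_lit 0xbdab49ca307b9ac5a928398a418820)))) (.node (nat_lit 5) (.node (nat_lit 4) (.leaf (nat_lit 0xbdab49ca307b9ac5a928398a418820)) (.leaf (nat_lit 0xa4a176d975522678bc8e6086929801))) (.node (nat_lit 6) (.leaf (nat_lit 0xaceefb31caa44f22c0c36a56140082)) (.leaf (nat_lit 0xb5e32752ab4cd06811ed1302a01ca3)))))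
noncomputable def T : Tr := T_0
noncomputable def J : Tr := J_0
noncomputable def F : Tr := F_0
noncomputable def row (u : ℕ) : ℕ := Nat.land (Nat.shiftRight (force (Nat.shiftRight u (nat_lit 3)) T.get) (Nat.mul (Nat.land u (nat_lit 7)) (nat_lit 130))) (nat_lit 0x3ffffffffffffffffffffffffffffffff)
noncomputable def jrow (u : ℕ) : ℕ := Nat.land (Nat.shiftRight (force (Nat.shiftRight u (nat_lit 3)) J.get) (Nat.mul (Nat.land u (nat_lit 7)) (nat_lit 117))) (nat_lit 0x1fffffffffffffffffffffffffffff)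
noncomputable def fget (k fx : ℕ) : ℕ := F.get (Nat.add k fx)
noncomputable def wt0 : LT := (.node (nat_lit 0) (.leaf 31 3 [nat_lit 65, nat_lit 0, nat_lit 65])
(.node (nat_lit 1) (.leaf 33 3 [nat_lit 78, nat_lit 0, nat_lit 78])
(.node (nat_lit 2) (.leaf 35 3 [nat_lit 91, nat_lit 0, nat_lit 91])
(.leaf 0 0 []))))
noncomputable def wt1 : LT := (.node (nat_lit 0) (.leaf 37 3 [nat_lit 65, nat_lit 26, nat_lit 65])
(.node (nat_lit 1) (.leaf 45 3 [nat_lit 78, nat_lit 13, nat_lit 78])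
(.node (nat_lit 2) (.leaf 53 3 [nat_lit 91, nat_lit 13, nat_lit 91])
(.leaf 0 0 []))))
noncomputable def wt2 : LT := (.node (nat_lit 0) (.leaf 37 1 [nat_lit 65, nat_lit 13, nat_lit 65])
(.node (nat_lit 1) (.leaf 47 3 [nat_lit 78, nat_lit 39, nat_lit 78])
(.node (nat_lit 2) (.leaf 55 3 [nat_lit 91, nat_lit 26, nat_lit 91])
(.leaf 0 0 []))))
noncomputable def wt3 : LT := (.node (nat_lit 0) (.leaf 41 3 [nat_lit 65, nat_lit 39, nat_lit 65])
(.node (nat_lit 1) (.leaf 47 1 [nat_lit 78, nat_lit 26, nat_lit 78])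
(.node (nat_lit 2) (.leaf 57 3 [nat_lit 91, nat_lit 52, nat_lit 91])
(.leaf 0 0 []))))
noncomputable def wt4 : LT := (.node (nat_lit 0) (.leaf 43 3 [nat_lit 65, nat_lit 52, nat_lit 65])
(.node (nat_lit 1) (.leaf 51 3 [nat_lit 78, nat_lit 52, nat_lit 78])
(.node (nat_lit 2) (.leaf 57 1 [nat_lit 91, nat_lit 39, nat_lit 91])
(.leaf 0 0 []))))
noncomputable def wt5 : LT := (.leaf 0 0 [])
noncomputable def wt6 : LT := (.node (nat_lit 1) (.node (nat_lit 0) (.leaf 61 5 [nat_lit 65, nat_lit 78, nat_lit 65, nat_lit 78, nat_lit 65])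
(.leaf 63 0 [nat_lit 91, nat_lit 78, nat_lit 91, nat_lit 78, nat_lit 91]))
(.leaf 0 0 []))
noncomputable def wt7 : LT := (.node (nat_lit 0) (.leaf 71 4 [nat_lit 65, nat_lit 0, nat_lit 91, nat_lit 65])
(.node (nat_lit 1) (.leaf 63 5 [nat_lit 78, nat_lit 91, nat_lit 78, nat_lit 91, nat_lit 78])
(.leaf 0 0 [])))
noncomputable def wt8 : LT := (.leaf 0 0 [])
noncomputable def sl : List (ℕ × ℕ × List ℕ × List ℕ) := [(0, nat_lit 0, [], []),
(2, nat_lit 13, [], []),
(4, nat_lit 26, [], []),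
(6, nat_lit 39, [], []),
(8, nat_lit 52, [], [])]
/-- the inverse column -/
noncomputable def icol (x : ℕ) : ℕ := x
noncomputable def inv (x : ℕ) : ℕ := x
def cols : List ℕ := [nat_lit 104, nat_lit 0, nat_lit 13, nat_lit 26, nat_lit 39, nat_lit 52, nat_lit 65, nat_lit 78, nat_lit 91]
noncomputable def cl : CL := (.cons (nat_lit 0) (nat_lit 0) (nat_lit 0) (nat_lit 0) wt0
(.cons (nat_lit 13) (nat_lit 13) (nat_lit 13) (nat_lit 1) wt1
(.cons (nat_lit 26) (nat_lit 26) (nat_lit 26) (nat_lit 2) wt2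
(.cons (nat_lit 39) (nat_lit 39) (nat_lit 39) (nat_lit 3) wt3
(.cons (nat_lit 52) (nat_lit 52) (nat_lit 52) (nat_lit 4) wt4
(.cons (nat_lit 65) (nat_lit 65) (nat_lit 65) (nat_lit 5) wt5
(.cons (nat_lit 78) (nat_lit 78) (nat_lit 78) (nat_lit 6) wt6
(.cons (nat_lit 91) (nat_lit 91) (nat_lit 91) (nat_lit 7) wt7
.nil))))))))
def rels : List (List ℕ) := [[0, 0],
[1, 1],
[2, 2],
[3, 3],
[4, 4],
[0, 1, 0, 1],
[0, 2, 0, 2],
[0, 3, 0, 3],
[0, 4, 0, 4],
[1, 2, 1, 2, 0],
[1, 3, 1, 3, 0],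
[1, 4, 1, 4, 0],
[2, 3, 2, 3, 0],
[2, 4, 2, 4, 0],
[3, 4, 3, 4, 0],
[5, 0, 5, 0],
[6, 0, 6, 0],
[7, 0, 7, 0],
[5, 1, 5, 2],
[5, 2, 5, 1],
[5, 3, 5, 3],
[5, 4, 5, 4],
[6, 1, 6, 1],
[6, 2, 6, 3],
[6, 3, 6, 2],
[6, 4, 6, 4],
[7, 1, 7, 1],
[7, 2, 7, 2],
[7, 3, 7, 4],
[7, 4, 7, 3],
[5, 6, 5, 6, 5, 6],
[6, 7, 6, 7, 6, 7],
[5, 5],
[6, 6],
[7, 7],
[5, 7, 5, 7, 0]]
def subs : List (List ℕ) := [[0],
[1],
[2],
[3],
[4]]
noncomputable def chk : ℕ → Bool := rowChk row jrow fget sl cols (nat_lit 24) (nat_lit 24) (nat_lit 8191) (nat_lit 31) (nat_lit 8192) (nat_lit 104) (nat_lit 117) (nat_lit 8191) (nat_lit 6) (nat_lit 63) (nat_lit 5) (nat_lit 31) cl (nat_lit 104) wt8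
theorem p0 : allB chk 5 0 = true := by decide +kernel
theorem all_chk : AllLt chk 24 := by
  have h := AllLt.zero chk
  have h := h.step 24 p0 (by decide +kernel)
  exact h
/-- column `x` of the final table -/
noncomputable def tab (x u : ℕ) : ℕ := ft fget (nat_lit 6) (nat_lit 63) (nat_lit 5) (nat_lit 31) (Nat.mul x (nat_lit 1)) u
theorem enum {G Ω : Type*} [Group G] [MulAction G Ω] (g : ℕ → G) (ω : Ω)
    (hinv : ∀ x, g (icol x) = (g x)⁻¹) (h1 : g 8 = 1)
    (hrels : ∀ R ∈ rels, ev g R = 1) (hsubs : ∀ S ∈ subs, ev g S • ω = ω) :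
    ∃ pt : ℕ → Ω, pt 0 = ω ∧ (∀ K : Subgroup G, (∀ x, g x ∈ K) → ∀ v, ∃ k ∈ K, pt v = k • ω) ∧
      ∀ x, x < 8 → ∀ u, u < 24 → tab x u < 24 ∧ g x • pt u = pt (tab x u) :=
  sound_scaled g ω row jrow fget sl inv icol cols (nat_lit 24) (nat_lit 24) (nat_lit 8191) (nat_lit 31) (nat_lit 8192) (nat_lit 104) (nat_lit 117) (nat_lit 8191) (nat_lit 6) (nat_lit 63) (nat_lit 5) (nat_lit 31) 5 cl (nat_lit 104) wt8 rels subs 13 (nat_lit 1) 8
    (fun _ => rfl) hinv h1 hrels hsubs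
    (by decide +kernel) (by decide +kernel) all_chk
end T54.E32H01
namespace T54.E32H10
open H54 (Tr force band)
open H18.TC
noncomputable def T_0 : Tr := (.node (nat_lit 0) (.leaf (nat_lit 0x1c000020f497d1bc87322f4cc331fe07d81ee07981de00540000af32fcd11643589bd27f4ab92a64a792964a39023000007f823e54514d40df033c0be82da0ae829a09e8054000133550d52de4a7917646d927b496d23b486d1fb0150000127c43f145c4d70c6835a10703fc0f703bc0e7007e000099820608ff24fca1927648bd237489d21f485d0150000096821a4aed2fb037c11f07781be067817e0578000000045c11f095d247413e03f80bf027c07f017c03f)) (.node (nat_lit 1) (.leaf (nat_lit 0x1c00003fd91363aaceeb50554753ec0f903dc0f503cc008c0001d6c76b1f6e7cb9e977bdde717945e317845df10230000175c6171d607187431d2c1b486b21a48672194807e0000c192b64ccd3234c582ee0b732e4cb532cccb1301c000057bd72f52e94fa813a0ee56d159455d155454d007e000145b4c6d70f5b3d4904fc13b54f553954dd535501f80004540fd042e50f9476d19b41d909641590364058070000063217c84bc13f1ed17ac45b7165c577155c537))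 (.leaf (nat_lit 0x1880006a25a49682988a65ad9ab652190864a18e8632008c0001a2869a1c2c6fb1b4d6eb5b296c25ae96b25aa90150000823a0ce62a19e85dbd7af61a984a60a980a5fa808c0000d8d3734f103b419c86620e8b39ace4b38ace0b01c00007745d916f25c097549cf27331cac7231c6c71300700000deb36acc7332cdb896da4d6d3534d2d3434ced01c000082aa06a7c45f5184520348039fee7f39fae7e3807e000175457516b55bd57ca5e2966f5a3d64f58bd60f))))
noncomputable def J_0 : Tr := (.node (nat_lit 0) (.leaf (nat_lit 0x30010008000004001000800400200100000000020000004004002002001000800400200040040020000000000000003001800c0060030000000002002001c00400200200100080040020000000004000000400400200200100080040020000002002001001000000000400200100080040000000000000000400400200200100080040020000000004000000000000102680f405a01d006)) (.node (nat_lit 1) (.leaf (nat_lit 0x30010008000004001000800400200100040040020000000004000003001800c00600300040040020000000000006003001800c006003000000200200000000000040040020010008004000000000300100080000060010008004002001000000200200000000000040040020010008004000000200200100100000000040020010008004000000000100100080040000010008004002001))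 (.leaf (nat_lit 0x8008008008005002801400a00500040040020000000004000003001800c0060030000000000000000c004002002001000800400200040040020000000000000003001800c006003000000000100100080000060010008004002001000000000100100080040000010008004002001000000400700100080000060010008004002001000000200200100100000000040020010008004))))
noncomputable def F_0 : Tr := (.node (nat_lit 4) (.node (nat_lit 1) (.node (nat_lit 0) (.leaf (nat_lit 0xbdab49ca307b9ac5a928398a418820)) (.leaf (nat_lit 0xbdab49ca307b9ac5a928398a418820))) (.node (nat_lit 2) (.leaf (nat_lit 0xbdab49ca307b9ac5a928398a418820)) (.node (nat_lit 3) (.leaf (nat_lit 0xbdab49ca307b9ac5a928398a418820)) (.leaf (nat_lit 0xbdab49ca307b9ac5a928398a418820))))) (.node (nat_lit 7) (.node (nat_lit 5) (.leaf (nat_lit 0xa4a176d975522678bc8e6086929801)) (.node (nat_lit 6) (.leaf (nat_lit 0xa4a176d975522678bc8e6086929801)) (.leaf (nat_lit 0xaceefb31caa44f22c0c36a56140082)))) (.node (nat_lit 8) (.leaf (nat_lit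 0xaceefb31caa44f22c0c36a56140082)) (.node (nat_lit 9) (.leaf (nat_lit 0xb5e32752ab4cd06811ed1302a01ca3)) (.leaf (nat_lit 0xb5e32752ab4cd06811ed1302a01ca3))))))
noncomputable def T : Tr := T_0
noncomputable def J : Tr := J_0
noncomputable def F : Tr := F_0
noncomputable def row (u : ℕ) : ℕ := Nat.land (Nat.shiftRight (force (Nat.shiftRight u (nat_lit 3)) T.get) (Nat.mul (Nat.land u (nat_lit 7)) (nat_lit 182))) (nat_lit 0x3fffffffffffffffffffffffffffffffffffffffffffff)
noncomputable def jrow (u : ℕ) : ℕ := Nat.land (Nat.shiftRight (force (Nat.shiftRight u (nat_lit 3)) J.get) (Nat.mul (Nat.land u (nat_lit 7)) (nat_lit 156))) (nat_lit 0xfffffffffffffffffffffffffffffffffffffff)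
noncomputable def fget (k fx : ℕ) : ℕ := F.get (Nat.add k fx)
noncomputable def wt0 : LT := (.node (nat_lit 1) (.node (nat_lit 0) (.leaf 67 1 [nat_lit 112, nat_lit 112])
(.leaf 65 1 [nat_lit 84, nat_lit 84]))
(.node (nat_lit 2) (.leaf 69 1 [nat_lit 140, nat_lit 140])
(.node (nat_lit 3) (.leaf 35 1 [nat_lit 126, nat_lit 0, nat_lit 140])
(.node (nat_lit 4) (.leaf 33 1 [nat_lit 98, nat_lit 0, nat_lit 112])
(.leaf 0 0 [])))))
noncomputable def wt1 : LT := (.node (nat_lit 1) (.node (nat_lit 0) (.leaf 45 3 [nat_lit 112, nat_lit 14, nat_lit 98])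
(.leaf 37 3 [nat_lit 84, nat_lit 28, nat_lit 70]))
(.node (nat_lit 2) (.leaf 53 3 [nat_lit 140, nat_lit 14, nat_lit 126])
(.node (nat_lit 3) (.leaf 53 1 [nat_lit 126, nat_lit 14, nat_lit 140])
(.node (nat_lit 4) (.leaf 45 1 [nat_lit 98, nat_lit 14, nat_lit 112])
(.leaf 0 0 [])))))
noncomputable def wt2 : LT := (.node (nat_lit 1) (.node (nat_lit 0) (.leaf 47 3 [nat_lit 112, nat_lit 42, nat_lit 98])
(.leaf 39 3 [nat_lit 84, nat_lit 14, nat_lit 70]))
(.node (nat_lit 2) (.leaf 55 3 [nat_lit 140, nat_lit 28, nat_lit 126])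
(.node (nat_lit 3) (.leaf 55 1 [nat_lit 126, nat_lit 28, nat_lit 140])
(.node (nat_lit 4) (.leaf 49 1 [nat_lit 98, nat_lit 42, nat_lit 112])
(.leaf 0 0 [])))))
noncomputable def wt3 : LT := (.node (nat_lit 1) (.node (nat_lit 0) (.leaf 49 3 [nat_lit 112, nat_lit 28, nat_lit 98])
(.leaf 41 3 [nat_lit 84, nat_lit 42, nat_lit 70]))
(.node (nat_lit 2) (.leaf 57 3 [nat_lit 140, nat_lit 56, nat_lit 126])
(.node (nat_lit 3) (.leaf 59 1 [nat_lit 126, nat_lit 56, nat_lit 140])
(.node (nat_lit 4) (.leaf 47 1 [nat_lit 98, nat_lit 28, nat_lit 112])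
(.leaf 0 0 [])))))
noncomputable def wt4 : LT := (.node (nat_lit 1) (.node (nat_lit 0) (.leaf 51 3 [nat_lit 112, nat_lit 56, nat_lit 98])
(.leaf 43 3 [nat_lit 84, nat_lit 56, nat_lit 70]))
(.node (nat_lit 2) (.leaf 59 3 [nat_lit 140, nat_lit 42, nat_lit 126])
(.node (nat_lit 3) (.leaf 57 1 [nat_lit 126, nat_lit 42, nat_lit 140])
(.node (nat_lit 4) (.leaf 51 1 [nat_lit 98, nat_lit 56, nat_lit 112])
(.leaf 0 0 [])))))
noncomputable def wt5 : LT := (.node (nat_lit 1) (.node (nat_lit 0) (.leaf 65 2 [nat_lit 84, nat_lit 0])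
(.leaf 71 0 [nat_lit 126, nat_lit 70, nat_lit 140]))
(.node (nat_lit 2) (.leaf 61 4 [nat_lit 112, nat_lit 84, nat_lit 98, nat_lit 70, nat_lit 98])
(.node (nat_lit 3) (.leaf 61 0 [nat_lit 98, nat_lit 70, nat_lit 98, nat_lit 84, nat_lit 112])
(.leaf 0 0 []))))
noncomputable def wt6 : LT := (.node (nat_lit 1) (.node (nat_lit 0) (.leaf 71 2 [nat_lit 140, nat_lit 84, nat_lit 126])
(.leaf 61 2 [nat_lit 98, nat_lit 84, nat_lit 112, nat_lit 84, nat_lit 98]))
(.leaf 0 0 []))
noncomputable def wt7 : LT := (.node (nat_lit 0) (.leaf 67 2 [nat_lit 112, nat_lit 0])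
(.node (nat_lit 1) (.leaf 63 0 [nat_lit 126, nat_lit 98, nat_lit 126, nat_lit 112, nat_lit 140])
(.node (nat_lit 2) (.leaf 61 5 [nat_lit 84, nat_lit 98, nat_lit 70, nat_lit 98, nat_lit 84])
(.leaf 0 0 []))))
noncomputable def wt8 : LT := (.node (nat_lit 1) (.node (nat_lit 0) (.leaf 63 2 [nat_lit 126, nat_lit 112, nat_lit 140, nat_lit 112, nat_lit 126])
(.leaf 61 3 [nat_lit 84, nat_lit 112, nat_lit 84, nat_lit 98, nat_lit 70]))
(.leaf 0 0 []))
noncomputable def wt9 : LT := (.node (nat_lit 0) (.leaf 69 2 [nat_lit 140, nat_lit 0])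
(.node (nat_lit 2) (.node (nat_lit 1) (.leaf 71 3 [nat_lit 84, nat_lit 126, nat_lit 70])
(.leaf 63 5 [nat_lit 112, nat_lit 126, nat_lit 98, nat_lit 126, nat_lit 112]))
(.leaf 0 0 [])))
noncomputable def wt10 : LT := (.node (nat_lit 0) (.leaf 63 3 [nat_lit 112, nat_lit 140, nat_lit 112, nat_lit 126, nat_lit 98])
(.leaf 0 0 []))
noncomputable def wt11 : LT := (.leaf 0 0 [])
noncomputable def sl : List (ℕ × ℕ × List ℕ × List ℕ) := [(0, nat_lit 0, [], []),
(2, nat_lit 14, [], []),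
(4, nat_lit 28, [], []),
(6, nat_lit 42, [], []),
(8, nat_lit 56, [], [])]
/-- the inverse column -/
noncomputable def icol (x : ℕ) : ℕ := List.getD [nat_lit 0, nat_lit 1, nat_lit 2, nat_lit 3, nat_lit 4, nat_lit 6, nat_lit 5, nat_lit 8, nat_lit 7, nat_lit 10, nat_lit 9] x x
noncomputable def inv (x : ℕ) : ℕ := Nat.mul (icol (Nat.div x (nat_lit 14))) (nat_lit 14)
def cols : List ℕ := [nat_lit 154, nat_lit 0, nat_lit 14, nat_lit 28, nat_lit 42, nat_lit 56, nat_lit 70, nat_lit 84, nat_lit 98, nat_lit 112, nat_lit 126, nat_lit 140]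
noncomputable def cl : CL := (.cons (nat_lit 0) (nat_lit 0) (nat_lit 0) (nat_lit 0) wt0
(.cons (nat_lit 14) (nat_lit 14) (nat_lit 13) (nat_lit 1) wt1
(.cons (nat_lit 28) (nat_lit 28) (nat_lit 26) (nat_lit 2) wt2
(.cons (nat_lit 42) (nat_lit 42) (nat_lit 39) (nat_lit 3) wt3
(.cons (nat_lit 56) (nat_lit 56) (nat_lit 52) (nat_lit 4) wt4
(.cons (nat_lit 70) (nat_lit 84) (nat_lit 65) (nat_lit 5) wt5
(.cons (nat_lit 84) (nat_lit 70) (nat_lit 78) (nat_lit 6) wt6
(.cons (nat_lit 98) (nat_lit 112) (nat_lit 91) (nat_lit 7) wt7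
(.cons (nat_lit 112) (nat_lit 98) (nat_lit 104) (nat_lit 8) wt8
(.cons (nat_lit 126) (nat_lit 140) (nat_lit 117) (nat_lit 9) wt9
(.cons (nat_lit 140) (nat_lit 126) (nat_lit 130) (nat_lit 10) wt10
.nil)))))))))))
def rels : List (List ℕ) := [[0, 0],
[1, 1],
[2, 2],
[3, 3],
[4, 4],
[0, 1, 0, 1],
[0, 2, 0, 2],
[0, 3, 0, 3],
[0, 4, 0, 4],
[1, 2, 1, 2, 0],
[1, 3, 1, 3, 0],
[1, 4, 1, 4, 0],
[2, 3, 2, 3, 0],
[2, 4, 2, 4, 0],
[3, 4, 3, 4, 0],
[5, 0, 6, 0],
[7, 0, 8, 0],
[9, 0, 10, 0],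
[5, 1, 6, 2],
[5, 2, 6, 1],
[5, 3, 6, 3],
[5, 4, 6, 4],
[7, 1, 8, 1],
[7, 2, 8, 3],
[7, 3, 8, 2],
[7, 4, 8, 4],
[9, 1, 10, 1],
[9, 2, 10, 2],
[9, 3, 10, 4],
[9, 4, 10, 3],
[5, 7, 5, 8, 6, 8],
[7, 9, 7, 10, 8, 10],
[5, 5, 0],
[7, 7, 0],
[9, 9, 0],
[5, 9, 6, 10]]
def subs : List (List ℕ) := [[0],
[1],
[2],
[3],
[4]]
noncomputable def chk : ℕ → Bool := rowChk row jrow fget sl cols (nat_lit 24) (nat_lit 24) (nat_lit 16383) (nat_lit 31) (nat_lit 16384) (nat_lit 154) (nat_lit 168) (nat_lit 8191) (nat_lit 6) (nat_lit 63) (nat_lit 5) (nat_lit 31) cl (nat_lit 143) wt11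
theorem p0 : allB chk 5 0 = true := by decide +kernel
theorem all_chk : AllLt chk 24 := by
  have h := AllLt.zero chk
  have h := h.step 24 p0 (by decide +kernel)
  exact h
/-- column `x` of the final table -/
noncomputable def tab (x u : ℕ) : ℕ := ft fget (nat_lit 6) (nat_lit 63) (nat_lit 5) (nat_lit 31) (Nat.mul x (nat_lit 1)) u
theorem enum {G Ω : Type*} [Group G] [MulAction G Ω] (g : ℕ → G) (ω : Ω)
    (hinv : ∀ x, g (icol x) = (g x)⁻¹) (h1 : g 11 = 1)
    (hrels : ∀ R ∈ rels, ev g R = 1) (hsubs : ∀ S ∈ subs, ev g S • ω = ω) :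
    ∃ pt : ℕ → Ω, pt 0 = ω ∧ (∀ K : Subgroup G, (∀ x, g x ∈ K) → ∀ v, ∃ k ∈ K, pt v = k • ω) ∧
      ∀ x, x < 11 → ∀ u, u < 24 → tab x u < 24 ∧ g x • pt u = pt (tab x u) :=
  sound_scaled g ω row jrow fget sl inv icol cols (nat_lit 24) (nat_lit 24) (nat_lit 16383) (nat_lit 31) (nat_lit 16384) (nat_lit 154) (nat_lit 168) (nat_lit 8191) (nat_lit 6) (nat_lit 63) (nat_lit 5) (nat_lit 31) 5 cl (nat_lit 143) wt11 rels subs 14 (nat_lit 1) 11
    (fun _ => Nat.mul_div_cancel _ (by decide)) hinv h1 hrels hsubs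
    (by decide +kernel) (by decide +kernel) all_chk
end T54.E32H10
namespace T54.E32H11
open H54 (Tr force band)
open H18.TC
noncomputable def T_0 : Tr := (.node (nat_lit 0) (.leaf (nat_lit 0x1c000020f497d1bc87322bccbf31fe07d81ee07981de00540000c332f4d11643589bd27f4ab92a64a792964a39023000007f823e54514d40df033c0be82da0ae829a09e8054000147550552de4a7917646d927b496d23b486d1fb0150000127c43f145c4d70c6835a10703fc0f703bc0e7007e000099820608ff24fca1927648bd237489d21f485d0150000096821a4aed2fb037c11f07781be067817e0578000000045c11f095d247413e03f80bf027c07f017c03f)) (.node (nat_lit 1) (.leaf (nat_lit 0x1c00003fd91363aaceeb4cd54353ec0f903dc0f503cc00460001e4c7bb1f6e7cb9eb775dde317845dd177c5db10230000175c6171d607187431d2c1b486b21a4867219480460000bb93164ccd3234c182b60b932dccb332d4cb1301c000057bd72f52e94fa813a0ee56d159455d155454d004600013fb526d70f5b3d4504c413d54ed53754e5535501f80004540fd042e50f9476d19b41d909641590364058070000063217c84bc13f1d917a445b7165c577155c537))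 (.leaf (nat_lit 0x1880006e25b29682988a65ad9ab652190864a18e863200460001b086ea1c2c6fb1b6d68b5ae96b25a896aa5a690150000823a0ce62a19e85dbd7af61a984a60a980a5fa808c0000d8d3734f103b419c86620e8b39ace4b38ace0b01c00007b45e716f25c097549cf27331cac7231c6c71300700000deb36acc7332cda496d24d6d3534d2d3434ced01c000082aa06a7c45f5184520348039fee7f39fae7e3807e000175457516b55bd57ca5e2966f5a3d64f58bd60f))))
noncomputable def J_0 : Tr := (.node (nat_lit 0) (.leaf (nat_lit 0x3001000800000200100080040020010000004000000000400400200200100080040020004004002000000000000000400200100080040000004000002001c004002002001000800400200000000040000004004002002001000800400200000020020010010000000005002801400a0050000000000000000400400200200100080040020000000004000000000000102680f405a01d006)) (.node (nat_lit 1) (.leaf (nat_lit 0x30010008000002001000800400200100000040000000000002002003001800c00600300040040020000000000004004002001000800400000040000000000002002003001800c00600300000000030010008000004001000800400200100000040000000000002002003001800c00600300000020020010010000000005002801400a005000000000100100080000020010008004002001))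 (.leaf (nat_lit 0x40000008008004006006003001800c00600000040000000000002002003001800c0060030000000000000000c004002002001000800400200040040020000000000000004002001000800400000040010010008000004001000800400200100000000010010008000002001000800400200100000080070010008000004001000800400200100000020020010010000000005002801400a005))))
noncomputable def F_0 : Tr := (.node (nat_lit 4) (.node (nat_lit 1) (.node (nat_lit 0) (.leaf (nat_lit 0xbdab49ca307b9ac5a928398a418820)) (.leaf (nat_lit 0xbdab49ca307b9ac5a928398a418820))) (.node (nat_lit 2) (.leaf (nat_lit 0xbdab49ca307b9ac5a928398a418820)) (.node (nat_lit 3) (.leaf (nat_lit 0xbdab49ca307b9ac5a928398a418820)) (.leaf (nat_lit 0xbdab49ca307b9ac5a928398a418820))))) (.node (nat_lit 7) (.node (nat_lit 5) (.leaf (nat_lit 0xa4a176d975522678bc8e6086929801)) (.node (nat_lit 6) (.leaf (nat_lit 0xa4a176d975522678bc8e6086929801)) (.leaf (nat_lit 0xaceefb31caa44f22c0c36a56140082)))) (.node (nat_lit 8) (.leaf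 (nat_lit 0xaceefb31caa44f22c0c36a56140082)) (.node (nat_lit 9) (.leaf (nat_lit 0xb5e32752ab4cd06811ed1302a01ca3)) (.leaf (nat_lit 0xb5e32752ab4cd06811ed1302a01ca3))))))
noncomputable def T : Tr := T_0
noncomputable def J : Tr := J_0
noncomputable def F : Tr := F_0
noncomputable def row (u : ℕ) : ℕ := Nat.land (Nat.shiftRight (force (Nat.shiftRight u (nat_lit 3)) T.get) (Nat.mul (Nat.land u (nat_lit 7)) (nat_lit 182))) (nat_lit 0x3fffffffffffffffffffffffffffffffffffffffffffff)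
noncomputable def jrow (u : ℕ) : ℕ := Nat.land (Nat.shiftRight (force (Nat.shiftRight u (nat_lit 3)) J.get) (Nat.mul (Nat.land u (nat_lit 7)) (nat_lit 156))) (nat_lit 0xfffffffffffffffffffffffffffffffffffffff)
noncomputable def fget (k fx : ℕ) : ℕ := F.get (Nat.add k fx)
noncomputable def wt0 : LT := (.node (nat_lit 1) (.node (nat_lit 0) (.leaf 67 1 [nat_lit 112, nat_lit 112])
(.leaf 65 1 [nat_lit 84, nat_lit 84]))
(.node (nat_lit 3) (.node (nat_lit 2) (.leaf 31 1 [nat_lit 70, nat_lit 0, nat_lit 84])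
(.leaf 69 1 [nat_lit 140, nat_lit 140]))
(.node (nat_lit 4) (.leaf 35 1 [nat_lit 126, nat_lit 0, nat_lit 140])
(.node (nat_lit 5) (.leaf 33 1 [nat_lit 98, nat_lit 0, nat_lit 112])
(.leaf 0 0 [])))))
noncomputable def wt1 : LT := (.node (nat_lit 1) (.node (nat_lit 0) (.leaf 45 3 [nat_lit 112, nat_lit 14, nat_lit 98])
(.leaf 37 3 [nat_lit 84, nat_lit 28, nat_lit 70]))
(.node (nat_lit 3) (.node (nat_lit 2) (.leaf 39 1 [nat_lit 70, nat_lit 28, nat_lit 84])
(.leaf 53 3 [nat_lit 140, nat_lit 14, nat_lit 126]))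
(.node (nat_lit 4) (.leaf 53 1 [nat_lit 126, nat_lit 14, nat_lit 140])
(.node (nat_lit 5) (.leaf 45 1 [nat_lit 98, nat_lit 14, nat_lit 112])
(.leaf 0 0 [])))))
noncomputable def wt2 : LT := (.node (nat_lit 1) (.node (nat_lit 0) (.leaf 47 3 [nat_lit 112, nat_lit 42, nat_lit 98])
(.leaf 39 3 [nat_lit 84, nat_lit 14, nat_lit 70]))
(.node (nat_lit 3) (.node (nat_lit 2) (.leaf 37 1 [nat_lit 70, nat_lit 14, nat_lit 84])
(.leaf 55 3 [nat_lit 140, nat_lit 28, nat_lit 126]))
(.node (nat_lit 4) (.leaf 55 1 [nat_lit 126, nat_lit 28, nat_lit 140])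
(.node (nat_lit 5) (.leaf 49 1 [nat_lit 98, nat_lit 42, nat_lit 112])
(.leaf 0 0 [])))))
noncomputable def wt3 : LT := (.node (nat_lit 1) (.node (nat_lit 0) (.leaf 49 3 [nat_lit 112, nat_lit 28, nat_lit 98])
(.leaf 41 3 [nat_lit 84, nat_lit 42, nat_lit 70]))
(.node (nat_lit 3) (.node (nat_lit 2) (.leaf 41 1 [nat_lit 70, nat_lit 42, nat_lit 84])
(.leaf 57 3 [nat_lit 140, nat_lit 56, nat_lit 126]))
(.node (nat_lit 4) (.leaf 59 1 [nat_lit 126, nat_lit 56, nat_lit 140])
(.node (nat_lit 5) (.leaf 47 1 [nat_lit 98, nat_lit 28, nat_lit 112])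
(.leaf 0 0 [])))))
noncomputable def wt4 : LT := (.node (nat_lit 1) (.node (nat_lit 0) (.leaf 51 3 [nat_lit 112, nat_lit 56, nat_lit 98])
(.leaf 43 3 [nat_lit 84, nat_lit 56, nat_lit 70]))
(.node (nat_lit 3) (.node (nat_lit 2) (.leaf 43 1 [nat_lit 70, nat_lit 56, nat_lit 84])
(.leaf 59 3 [nat_lit 140, nat_lit 42, nat_lit 126]))
(.node (nat_lit 4) (.leaf 57 1 [nat_lit 126, nat_lit 42, nat_lit 140])
(.node (nat_lit 5) (.leaf 51 1 [nat_lit 98, nat_lit 56, nat_lit 112])
(.leaf 0 0 [])))))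
noncomputable def wt5 : LT := (.node (nat_lit 0) (.leaf 65 2 [nat_lit 84, nat_lit 0])
(.node (nat_lit 2) (.node (nat_lit 1) (.leaf 61 4 [nat_lit 112, nat_lit 84, nat_lit 98, nat_lit 70, nat_lit 98])
(.leaf 61 0 [nat_lit 98, nat_lit 70, nat_lit 98, nat_lit 84, nat_lit 112]))
(.leaf 0 0 [])))
noncomputable def wt6 : LT := (.node (nat_lit 0) (.leaf 61 2 [nat_lit 98, nat_lit 84, nat_lit 112, nat_lit 84, nat_lit 98])
(.leaf 0 0 []))
noncomputable def wt7 : LT := (.node (nat_lit 0) (.leaf 67 2 [nat_lit 112, nat_lit 0])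
(.node (nat_lit 1) (.leaf 63 0 [nat_lit 126, nat_lit 98, nat_lit 126, nat_lit 112, nat_lit 140])
(.node (nat_lit 2) (.leaf 61 5 [nat_lit 84, nat_lit 98, nat_lit 70, nat_lit 98, nat_lit 84])
(.leaf 0 0 []))))
noncomputable def wt8 : LT := (.node (nat_lit 1) (.node (nat_lit 0) (.leaf 63 2 [nat_lit 126, nat_lit 112, nat_lit 140, nat_lit 112, nat_lit 126])
(.leaf 61 3 [nat_lit 84, nat_lit 112, nat_lit 84, nat_lit 98, nat_lit 70]))
(.leaf 0 0 []))
noncomputable def wt9 : LT := (.node (nat_lit 0) (.leaf 69 2 [nat_lit 140, nat_lit 0])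
(.node (nat_lit 2) (.node (nat_lit 1) (.leaf 71 4 [nat_lit 84, nat_lit 0, nat_lit 126, nat_lit 70])
(.leaf 63 5 [nat_lit 112, nat_lit 126, nat_lit 98, nat_lit 126, nat_lit 112]))
(.leaf 0 0 [])))
noncomputable def wt10 : LT := (.node (nat_lit 0) (.leaf 71 2 [nat_lit 70, nat_lit 140, nat_lit 84, nat_lit 0])
(.node (nat_lit 1) (.leaf 63 3 [nat_lit 112, nat_lit 140, nat_lit 112, nat_lit 126, nat_lit 98])
(.leaf 0 0 [])))
noncomputable def wt11 : LT := (.leaf 0 0 [])
noncomputable def sl : List (ℕ × ℕ × List ℕ × List ℕ) := [(0, nat_lit 0, [], []),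
(2, nat_lit 14, [], []),
(4, nat_lit 28, [], []),
(6, nat_lit 42, [], []),
(8, nat_lit 56, [], [])]
/-- the inverse column -/
noncomputable def icol (x : ℕ) : ℕ := List.getD [nat_lit 0, nat_lit 1, nat_lit 2, nat_lit 3, nat_lit 4, nat_lit 6, nat_lit 5, nat_lit 8, nat_lit 7, nat_lit 10, nat_lit 9] x x
noncomputable def inv (x : ℕ) : ℕ := Nat.mul (icol (Nat.div x (nat_lit 14))) (nat_lit 14)
def cols : List ℕ := [nat_lit 154, nat_lit 0, nat_lit 14, nat_lit 28, nat_lit 42, nat_lit 56, nat_lit 70, nat_lit 84, nat_lit 98, nat_lit 112, nat_lit 126, nat_lit 140]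
noncomputable def cl : CL := (.cons (nat_lit 0) (nat_lit 0) (nat_lit 0) (nat_lit 0) wt0
(.cons (nat_lit 14) (nat_lit 14) (nat_lit 13) (nat_lit 1) wt1
(.cons (nat_lit 28) (nat_lit 28) (nat_lit 26) (nat_lit 2) wt2
(.cons (nat_lit 42) (nat_lit 42) (nat_lit 39) (nat_lit 3) wt3
(.cons (nat_lit 56) (nat_lit 56) (nat_lit 52) (nat_lit 4) wt4
(.cons (nat_lit 70) (nat_lit 84) (nat_lit 65) (nat_lit 5) wt5
(.cons (nat_lit 84) (nat_lit 70) (nat_lit 78) (nat_lit 6) wt6
(.cons (nat_lit 98) (nat_lit 112) (nat_lit 91) (nat_lit 7) wt7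
(.cons (nat_lit 112) (nat_lit 98) (nat_lit 104) (nat_lit 8) wt8
(.cons (nat_lit 126) (nat_lit 140) (nat_lit 117) (nat_lit 9) wt9
(.cons (nat_lit 140) (nat_lit 126) (nat_lit 130) (nat_lit 10) wt10
.nil)))))))))))
def rels : List (List ℕ) := [[0, 0],
[1, 1],
[2, 2],
[3, 3],
[4, 4],
[0, 1, 0, 1],
[0, 2, 0, 2],
[0, 3, 0, 3],
[0, 4, 0, 4],
[1, 2, 1, 2, 0],
[1, 3, 1, 3, 0],
[1, 4, 1, 4, 0],
[2, 3, 2, 3, 0],
[2, 4, 2, 4, 0],
[3, 4, 3, 4, 0],
[5, 0, 6, 0],
[7, 0, 8, 0],
[9, 0, 10, 0],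
[5, 1, 6, 2],
[5, 2, 6, 1],
[5, 3, 6, 3],
[5, 4, 6, 4],
[7, 1, 8, 1],
[7, 2, 8, 3],
[7, 3, 8, 2],
[7, 4, 8, 4],
[9, 1, 10, 1],
[9, 2, 10, 2],
[9, 3, 10, 4],
[9, 4, 10, 3],
[5, 7, 5, 8, 6, 8],
[7, 9, 7, 10, 8, 10],
[5, 5, 0],
[7, 7, 0],
[9, 9, 0],
[5, 9, 6, 10, 0]]
def subs : List (List ℕ) := [[0],
[1],
[2],
[3],
[4]]
noncomputable def chk : ℕ → Bool := rowChk row jrow fget sl cols (nat_lit 24) (nat_lit 24) (nat_lit 16383) (nat_lit 31) (nat_lit 16384) (nat_lit 154) (nat_lit 168) (nat_lit 8191) (nat_lit 6) (nat_lit 63) (nat_lit 5) (nat_lit 31) cl (nat_lit 143) wt11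
theorem p0 : allB chk 5 0 = true := by decide +kernel
theorem all_chk : AllLt chk 24 := by
  have h := AllLt.zero chk
  have h := h.step 24 p0 (by decide +kernel)
  exact h
/-- column `x` of the final table -/
noncomputable def tab (x u : ℕ) : ℕ := ft fget (nat_lit 6) (nat_lit 63) (nat_lit 5) (nat_lit 31) (Nat.mul x (nat_lit 1)) u
theorem enum {G Ω : Type*} [Group G] [MulAction G Ω] (g : ℕ → G) (ω : Ω)
    (hinv : ∀ x, g (icol x) = (g x)⁻¹) (h1 : g 11 = 1)
    (hrels : ∀ R ∈ rels, ev g R = 1) (hsubs : ∀ S ∈ subs, ev g S • ω = ω) :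
    ∃ pt : ℕ → Ω, pt 0 = ω ∧ (∀ K : Subgroup G, (∀ x, g x ∈ K) → ∀ v, ∃ k ∈ K, pt v = k • ω) ∧
      ∀ x, x < 11 → ∀ u, u < 24 → tab x u < 24 ∧ g x • pt u = pt (tab x u) :=
  sound_scaled g ω row jrow fget sl inv icol cols (nat_lit 24) (nat_lit 24) (nat_lit 16383) (nat_lit 31) (nat_lit 16384) (nat_lit 154) (nat_lit 168) (nat_lit 8191) (nat_lit 6) (nat_lit 63) (nat_lit 5) (nat_lit 31) 5 cl (nat_lit 143) wt11 rels subs 14 (nat_lit 1) 11
    (fun _ => Nat.mul_div_cancel _ (by decide)) hinv h1 hrels hsubs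
    (by decide +kernel) (by decide +kernel) all_chk
end T54.E32H11
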