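import Mathlib
import Cfsg.Agent.Base
import Cfsg.Agent.Lib.M12C.Mod
import Cfsg.Agent.Lib.McL27.Word
import Cfsg.Agent.Lib.E32.TC

/-! # The four groups `2^{1+4}_- . S₄` (helper40) -/

set_option autoImplicit false
set_option maxRecDepth 100000

namespace H40.E32

open H54 Subgroup
open H70.TM.El (anyLt anyLt_iff cnt cnt_eq)

/-- an entry of a table -/
def lk (T i : ℕ) : ℕ := Nat.land (Nat.shiftRight T (Nat.mul (nat_lit 5) i)) (nat_lit 31)
/-- the position of a pair -/
def ix (i j : ℕ) : ℕ := Nat.add (Nat.mul (nat_lit 32) i) j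
/-- the product in the extraspecial group -/
def mE (x y : ℕ) : ℕ := lk (nat_lit 0x462214e64a14b6b1cf84672a56f6ce35bef3df08043290c74256a635ee8c253ad2d7c677ae77fe10c2031ca45a9097b98d94e30b5eb4deb19ffb9d188013988552d2873dac9ca11bda95d6f38f7fbc290e608062635cf4254bad2f68c272e77dfc675b214c7004436b1ee4a16aa56d784653ef3fece37a398a41882073d8d52d09bdab49ca30f7f9dd6f1931c8510c017b9ac5a928b5e9594e11ffbbcdeb384254b6b1ee08062214c7c675bef3fe8c272a56d74a16a635cf00443290e6ce37ae77df84653ad2f652d097b9ac1882031c85d6f19ffbbc9ca30b5e955a92873d8d10c01398a4deb38f7f9d94e11bdab46b1cf4256a214e608043ef3dfc677aa56f68c253635ee4a14b290c700462e77fece35bad2d7846727b98d52d2831ca418801ffb9dd6f38b5eb49ca1173dac5a9093988510c20f7fbcdeb19bda9594e308c272a56d7ce37ae77df08062214c74a16a635cf84653ad2f6c675bef3fe00443290e64254b6b1ee9ca30b5e95deb38f7f9d1882031c855a92873d8d94e11bdab4d6f19ffbbc10c01398a452d097b9aca56f68c253e77fece35b214e608043635ee4a14bad2d784672ef3dfc677a290c7004626b1cf4256ab5eb49ca11f7fbcdeb1931ca41880173dac5a909bda9594e30ffb9dd6f383988510c207b98d52d28ce35bef3df8c253ad2d74a14b6b1cf08043290c7c677ae77fe84672a56f64256a635ee00462214e6deb19ffb9d9ca11bda955a9097b98d1880139885d6f38f7fbc94e30b5eb452d2873dac10c2031ca4e77dfc675ba56d784653635cf4254b214c700443ef3fece37aad2f68c2726b1ee4a16a290e608062f7f9dd6f19b5e9594e1173d8d52d0931c8510c01ffbbcdeb38bdab49ca307b9ac5a928398a418820)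 (ix x y)
/-- the action of `S₄` -/
def ac (p y : ℕ) : ℕ := lk (nat_lit 0xff9cfb5cc7d6d4b94c62e758da54a4c65288c020f7deebd8e6e758da54a4d6d4b94c62c65288c020f7deed6d4bb5cc794c62ef1acc6528a54a48c020ff9cfde96aef1acc6528b5cc794c62a54a48c020ff9cfe758dbd8e6a54a4de96ac652894c628c020f7deeef1acde96ac6528bd8e6a54a494c628c020f7ed773cc7dea5352c62ef295634a4ce2304a020ffaf67b8e6ef295634a4dea5352c62ce2304a020ffaf6dea5373cc752c62e76b4ce230634a44a020f7ed7d6e72e76b4ce23073cc752c62634a44a020f7ed7ef2957b8e6634a4d6e72ce23052c624a020ffaf6e76b4d6e72ce2307b8e6634a452c624a020ffb5b7b94bbda5331c62e77196b128ad23029020f7f7a73d6ae77196b128bda5331c62ad23029020f7f7abda537b94b31c62ef338ad2306b12829020ffb5bb5e72ef338ad2307b94b31c626b12829020ffb5be771973d6a6b128b5e72ad23031c6229020f7f7aef338b5e72ad23073d6a6b12831c6229020f7f9d73d8db5e95398a4d6f195a9289ca3018820ffbbc7b9acd6f195a928b5e95398a49ca3018820ffbbcb5e9573d8d398a4deb389ca305a92818820f7f9dbdab4deb389ca3073d8d398a45a92818820f7f9dd6f197b9ac5a928bdab49ca30398a418820ffbbcdeb38bdab49ca307b9ac5a928398a418820)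 (ix p y)
/-- the product in `S₄` -/
def pm (p q : ℕ) : ℕ := Nat.mod (lk (nat_lit 0x443214c74254b635cf84653a56d7000000000031d0952c0110c8573d8d8c29594ef6000000000010c012918d73e1131d0952e72b5e950000000000635cf84443004a4424c75aad79cab40000000000424c75a9cf6363000443216b4bda53000000000073d8d8c10931d6a10c01292f6ad27200000000000808510ce652d0994e95b5d8d73e1100000000003994b4242021443a5653bd9cf6363000000000002142018a53a56d73994b425ac845cf000000000094e95b5c850806252ce64a2116b1ee000000000052ce64a29594ef60808510dee8c18d0000000000a5653bd94b399282142018a307b9ac0000000000188a4005ac845cf9cad7a54c74254b00000000006b21173c6229001b5e72ad10931d6a00000000002906208272b5e956b21173ce652d0900000000009cad7a54a418820845ac7b94b399280000000000845ac7bad79cab4188a4005285a8c70000000000b5e72ad2116b1ee290620816a4a0e600000000004a16a31dee8c18dad2f694c0110c8500000000007ba30635285a8c7bdab49c843004a400000000005a92839ab4bda537ba3063420214430000000000ad2f694d6a4a0e68c1ee6b0850806200000000008c1ee6b2f6ad2724a16a31c62290010000000000bdab49ca307b9ac5a928398a418820)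 (ix p q)) (nat_lit 24)
/-- the inverse in the extraspecial group -/
def iE (x : ℕ) : ℕ := lk (nat_lit 0xffb9dd6f19b5e9594e3073d8d52d2831ca418820) x
/-- the inverse in `S₄` -/
def iP (p : ℕ) : ℕ := Nat.mod (lk (nat_lit 0xbc6af5a6d0a39489b64c398a320820) p) (nat_lit 24)
/-- the cocycles -/
noncomputable def co (α β : Bool) (p q : ℕ) : ℕ := Nat.land (Nat.shiftRight (sel α
  (sel β (nat_lit 0x9bf02600fd964000fd9640009bf026009bf02600fd964000019fe60067f980009a6fc00066666600fc09a6000000000067f98000019fe600fc09a600000000009a6fc00066666600019fe60067f980009a6fc00066666600fc09a600000000)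
    (nat_lit 0x66666600666666000000000000000000666666006666660000000000000000006666660066666600000000000000000066666600666666000000000000000000666666006666660000000000000000006666660066666600000000))
  (sel β (nat_lit 0x9bf026009bf026009bf026009bf026009bf026009bf0260067f9800067f980009a6fc000000000009a6fc0000000000067f9800067f980009a6fc000000000009a6fc0000000000067f9800067f980009a6fc000000000009a6fc000000000) (nat_lit 0x0))) (ix p q)) (nat_lit 1)

/-- the product -/
noncomputable def mulN (α β : Bool) (u v : ℕ) : ℕ := force u fun u => force v fun v =>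
  force (Nat.div u (nat_lit 32)) fun p => force (Nat.div v (nat_lit 32)) fun q =>
    ix (pm p q) (mE (mE (Nat.mod u (nat_lit 32)) (ac p (Nat.mod v (nat_lit 32)))) (co α β p q))

/-- the inverse -/
noncomputable def invN (α β : Bool) (u : ℕ) : ℕ := force u fun u =>
  force (Nat.div u (nat_lit 32)) fun p => force (iP p) fun q =>
    ix q (mE (ac q (iE (Nat.mod u (nat_lit 32)))) (co α β q p))

theorem lk_lt (T i : ℕ) : lk T i < 32 := Nat.lt_succ_of_le Nat.and_le_right
theorem co_lt (α β : Bool) (p q : ℕ) : co α β p q < 2 := Nat.lt_succ_of_le Nat.and_le_right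
theorem pm_lt (p q : ℕ) : pm p q < 24 := Nat.mod_lt _ (by norm_num)
theorem iP_lt (p : ℕ) : iP p < 24 := Nat.mod_lt _ (by norm_num)
theorem ix_div (p : ℕ) {x : ℕ} (h : x < 32) : ix p x / 32 = p := by
  show (32 * p + x) / 32 = p; omega
theorem ix_mod (p : ℕ) {x : ℕ} (h : x < 32) : ix p x % 32 = x := by
  show (32 * p + x) % 32 = x; omega
theorem ix_lt {p x : ℕ} (hp : p < 24) (h : x < 32) : ix p x < 768 := by
  show 32 * p + x < 768; omega

theorem mE_assoc : ∀ x < 32, ∀ y < 32, ∀ w < 32, mE (mE x y) w = mE x (mE y w) := by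
  have : allLt (fun x => allLt (fun y => force (mE x y) fun a => allLt (fun w =>
    Nat.beq (mE a w) (mE x (mE y w))) 32) 32) 32 = true := by decide +kernel
  simpa only [allLt_iff, force_eq, Nat.beq_eq] using this

theorem ac_mE : ∀ p < 24, ∀ x < 32, ∀ y < 32, ac p (mE x y) = mE (ac p x) (ac p y) := by
  have : allLt (fun p => allLt (fun x => force (ac p x) fun a => allLt (fun y =>
    Nat.beq (ac p (mE x y)) (mE a (ac p y))) 32) 32) 24 = true := by decide +kernel
  simpa only [allLt_iff, force_eq, Nat.beq_eq] using this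

theorem ac_ac : ∀ p < 24, ∀ q < 24, ∀ x < 32, ac p (ac q x) = ac (pm p q) x := by
  have : allLt (fun p => allLt (fun q => force (pm p q) fun a => allLt (fun x =>
    Nat.beq (ac p (ac q x)) (ac a x)) 32) 24) 24 = true := by decide +kernel
  simpa only [allLt_iff, force_eq, Nat.beq_eq] using this

theorem pm_assoc : ∀ p < 24, ∀ q < 24, ∀ r < 24, pm (pm p q) r = pm p (pm q r) := by
  have : allLt (fun p => allLt (fun q => force (pm p q) fun a => allLt (fun r =>
    Nat.beq (pm a r) (pm p (pm q r))) 24) 24) 24 = true := by decide +kernel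
  simpa only [allLt_iff, force_eq, Nat.beq_eq] using this

theorem cen_two : ∀ c < 2, (∀ x < 32, mE c x = mE x c) ∧ ∀ p < 24, ac p c = c := by
  have : allLt (fun c => band (allLt (fun x => Nat.beq (mE c x) (mE x c)) 32)
    (allLt (fun p => Nat.beq (ac p c) c) 24)) 2 = true := by decide +kernel
  simpa only [allLt_iff, band_eq_true, Nat.beq_eq] using this

theorem cocycle (α β : Bool) : ∀ p < 24, ∀ q < 24, ∀ r < 24,
    mE (co α β p q) (co α β (pm p q) r) = mE (co α β q r) (co α β p (pm q r)) := by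
  have : allLt (fun p => allLt (fun q => force (pm p q) fun a => force (co α β p q) fun c =>
    allLt (fun r => Nat.beq (mE c (co α β a r)) (mE (co α β q r) (co α β p (pm q r)))) 24) 24) 24 =
      true := by revert α β; decide +kernel
  simpa only [allLt_iff, force_eq, Nat.beq_eq] using this

theorem left_ax (α β : Bool) : ∀ u < 768, mulN α β 0 u = u ∧ mulN α β (invN α β u) u = 0 := by
  have : allLt (fun u => band (Nat.beq (mulN α β 0 u) u) (Nat.beq (mulN α β (invN α β u) u) 0)) 768 =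
    true := by revert α β; decide +kernel
  simpa only [allLt_iff, band_eq_true, Nat.beq_eq] using this

theorem mulN_eq (α β : Bool) (u v : ℕ) : mulN α β u v = ix (pm (u / 32) (v / 32))
    (mE (mE (u % 32) (ac (u / 32) (v % 32))) (co α β (u / 32) (v / 32))) := rfl

theorem mulN_assoc (α β : Bool) {u v w : ℕ} (hu : u < 768) (hv : v < 768) (hw : w < 768) :
    mulN α β (mulN α β u v) w = mulN α β u (mulN α β v w) := by
  have l : ∀ x y, mE x y < 32 := fun _ _ => lk_lt _ _
  have l' : ∀ x y, ac x y < 32 := fun _ _ => lk_lt _ _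
  have l2 : ∀ x y, co α β x y < 32 := fun _ _ => (co_lt ..).trans (by norm_num)
  rw [mulN_eq α β (mulN α β u v), mulN_eq α β u (mulN α β v w), mulN_eq α β u v, mulN_eq α β v w,
    ix_div _ (l _ _), ix_mod _ (l _ _), ix_div _ (l _ _), ix_mod _ (l _ _)]
  have hp : u / 32 < 24 := by omega
  have hq : v / 32 < 24 := by omega
  have hr : w / 32 < 24 := by omega
  have hx : u % 32 < 32 := by omega
  have hy : v % 32 < 32 := by omega
  have hw : w % 32 < 32 := by omega
  generalize u / 32 = p, v / 32 = q, w / 32 = r, u % 32 = x, v % 32 = y, w % 32 = w at *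
  rw [pm_assoc p hp q hq r hr, ac_mE p hp _ (l _ _) _ (l2 _ _), ac_mE p hp _ hy _ (l' _ _),
    ac_ac p hp q hq w hw, (cen_two _ (co_lt ..)).2 p hp,
    mE_assoc _ (l _ _) _ (l2 _ _) _ (l' _ _), (cen_two _ (co_lt ..)).1 _ (l' _ _),
    mE_assoc _ (l _ _) _ (l _ _) _ (l2 _ _), mE_assoc _ (l' _ _) _ (l2 _ _) _ (l2 _ _),
    cocycle α β p hp q hq r hr, mE_assoc x hx _ (l _ _) _ (l2 _ _),
    mE_assoc _ (l _ _) _ (l2 _ _) _ (l2 _ _), mE_assoc _ (l' _ _) _ (l' _ _) _ (l _ _),
    mE_assoc x hx _ (l' _ _) _ (l _ _)]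

/-- the elements -/
structure W (α β : Bool) where
  val : ℕ
  lt : val < 768

namespace W
variable {α β : Bool}

theorem ext {u v : W α β} (h : u.val = v.val) : u = v := by cases u; cases v; cases h; rfl

/-- the element number `i` -/
def of (i : ℕ) : W α β := ⟨Nat.mod i (nat_lit 768), Nat.mod_lt _ (by norm_num)⟩

theorem of_val (u : W α β) : of u.val = u := ext (Nat.mod_eq_of_lt u.lt)

noncomputable instance : Mul (W α β) := ⟨fun u v => ⟨mulN α β u.val v.val, ix_lt (pm_lt ..) (lk_lt ..)⟩⟩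
instance : One (W α β) := ⟨⟨0, by norm_num⟩⟩
noncomputable instance : Inv (W α β) := ⟨fun u => ⟨invN α β u.val, ix_lt (iP_lt _) (lk_lt ..)⟩⟩

noncomputable instance : Group (W α β) := Group.ofLeftAxioms
  (fun u v w => ext (mulN_assoc α β u.lt v.lt w.lt)) (fun u => ext
    (show mulN α β (1 : W α β).val u.val = _ from (left_ax α β _ u.lt).1))
  fun u => ext (left_ax α β _ u.lt).2

instance : DecidableEq (W α β) := fun u v =>
  decidable_of_iff (Nat.beq u.val v.val = true) ⟨fun h => ext (Nat.eq_of_beq_eq_true h),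
    fun h => h ▸ Nat.beq_refl _⟩

noncomputable instance decForall {P : W α β → Prop} [DecidablePred P] : Decidable (∀ u, P u) :=
  decidable_of_iff (allLt (fun i => decide (P (of i))) (nat_lit 768) = true) (by
    rw [allLt_iff]
    exact ⟨fun h u => by simpa only [of_val, decide_eq_true_eq] using h u.val u.lt,
      fun h i _ => decide_eq_true (h _)⟩)

noncomputable instance decExists {P : W α β → Prop} [DecidablePred P] : Decidable (∃ u, P u) :=
  decidable_of_iff (anyLt (fun i => decide (P (of i))) (nat_lit 768) = true) (by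
    rw [anyLt_iff]
    exact ⟨fun ⟨i, _, h⟩ => ⟨_, of_decide_eq_true h⟩,
      fun ⟨u, h⟩ => ⟨u.val, u.lt, decide_eq_true (by rwa [of_val])⟩⟩)

noncomputable instance (y u : W α β) : Decidable (H70.TM.Cj y u) :=
  inferInstanceAs (Decidable (∃ g, g * y * g⁻¹ = u))

/-- the numbering -/
def equivFin : W α β ≃ Fin 768 :=
  ⟨fun u => ⟨u.val, u.lt⟩, fun i => ⟨i.val, i.isLt⟩, fun _ => rfl, fun _ => rfl⟩

instance : Finite (W α β) := Finite.of_equiv _ equivFin.symm

theorem card : Nat.card (W α β) = 768 := by rw [Nat.card_congr equivFin, Nat.card_fin]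

theorem card_subtype (P : W α β → Prop) [DecidablePred P] :
    Nat.card {u // P u} = cnt (fun i => decide (P (of i))) 768 := by
  have e : ∀ {i : ℕ}, i < 768 → (of i : W α β).val = i := fun h => Nat.mod_eq_of_lt h
  rw [cnt_eq, ← Nat.card_eq_finsetCard]
  refine Nat.card_congr ⟨fun u => ⟨u.1.val, by simpa [of_val, u.1.lt] using u.2⟩,
    fun i => ⟨of i, by have := i.2; simp at this; exact this.2⟩, fun u => Subtype.ext (of_val _),
    fun i => Subtype.ext (e (by have := i.2; simp at this; exact this.1))⟩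

/-- the subgroup with the elements listed in a mask -/
noncomputable def sub (M : ℕ) (h : Nat.testBit M 0 = true ∧ ∀ u : W α β, Nat.testBit M u.val = true →
    Nat.testBit M u⁻¹.val = true ∧ ∀ v : W α β, Nat.testBit M v.val = true →
      Nat.testBit M (u * v).val = true) : Subgroup (W α β) where
  carrier := {u | Nat.testBit M u.val = true}
  one_mem' := h.1
  inv_mem' a := (h.2 _ a).1
  mul_mem' a b := (h.2 _ a).2 _ b

instance (M : ℕ) (h) (u : W α β) : Decidable (u ∈ sub M h) :=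
  inferInstanceAs (Decidable (Nat.testBit M u.val = true))

theorem div_mul (u v : W α β) : (u * v).val / 32 = pm (u.val / 32) (v.val / 32) := ix_div _ (lk_lt ..)
theorem div_inv (u : W α β) : u⁻¹.val / 32 = iP (u.val / 32) := ix_div _ (lk_lt ..)
theorem div_lt (u : W α β) : u.val / 32 < 24 := by have := u.lt; omega

/-- the preimage of a subgroup of `S₄` -/
noncomputable def pre (α β : Bool) (M : ℕ) (h : Nat.testBit M 0 = true ∧ ∀ p < 24, Nat.testBit M p = true →
    Nat.testBit M (iP p) = true ∧ ∀ q < 24, Nat.testBit M q = true → Nat.testBit M (pm p q) = true) :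
    Subgroup (W α β) where
  carrier := {u | Nat.testBit M (u.val / 32) = true}
  one_mem' := by rw [Set.mem_ofPred_eq, show (1 : W α β).val = 0 from rfl]; exact h.1
  inv_mem' {u} a := by
    rw [Set.mem_ofPred_eq, div_inv]; exact (h.2 _ u.div_lt a).1
  mul_mem' {u v} a b := by
    rw [Set.mem_ofPred_eq, div_mul]; exact (h.2 _ u.div_lt a).2 _ v.div_lt b

instance (M : ℕ) (h) (u : W α β) : Decidable (u ∈ pre α β M h) :=
  inferInstanceAs (Decidable (Nat.testBit M (u.val / 32) = true))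

end W

/-- the relators of the extraspecial group -/
def RE : List (List ℕ) := [[0, 0],
  [2, 2],
  [4, 4],
  [6, 6],
  [8, 8],
  [0, 2, 0, 2],
  [0, 4, 0, 4],
  [0, 6, 0, 6],
  [0, 8, 0, 8],
  [2, 4, 2, 4, 0],
  [2, 6, 2, 6, 0],
  [2, 8, 2, 8, 0],
  [4, 6, 4, 6, 0],
  [4, 8, 4, 8, 0],
  [6, 8, 6, 8, 0]]
/-- the action and the braid relators -/
def RA : List (List ℕ) := [[10, 0, 11, 0],
  [12, 0, 13, 0],
  [14, 0, 15, 0],
  [10, 2, 11, 4],
  [10, 4, 11, 2],
  [10, 6, 11, 6],
  [10, 8, 11, 8],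
  [12, 2, 13, 2],
  [12, 4, 13, 6],
  [12, 6, 13, 4],
  [12, 8, 13, 8],
  [14, 2, 15, 2],
  [14, 4, 15, 4],
  [14, 6, 15, 8],
  [14, 8, 15, 6],
  [10, 12, 10, 13, 11, 13],
  [12, 14, 12, 15, 13, 15]]
/-- the relators -/
def RH (α β : Bool) : List (List ℕ) := RE ++ (RA ++ [10 :: 10 :: cond α [0] [], 12 :: 12 :: cond α [0] [],
  14 :: 14 :: cond α [0] [], 10 :: 14 :: 11 :: 15 :: cond β [0] []])

theorem bndE : Bnd RE 5 32 :=
  Bnd.tc (bnd_zero []) (n := 32) (fun g ω => T54.E32E.enum g ω) (by decide) [0, 2, 4, 6, 8] rfl (fun _ h => h)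
    []
    []
    (by decide +kernel)
theorem bnd00 : Bnd (RH false false) 8 768 :=
  Bnd.tc bndE (n := 24) (fun g ω => T54.E32H00.enum g ω) (by decide) [0, 2, 4, 6, 8, 10, 12, 14] rfl (fun _ h => h)
    [[0],
  [2],
  [4],
  [6],
  [8]]
    [([10, 0, 10, 0], [([], 31), ([10, 0], 65)]),
  ([12, 0, 12, 0], [([], 33), ([12, 0], 67)]),
  ([14, 0, 14, 0], [([], 35), ([14, 0], 69)]),
  ([10, 2, 10, 4], [([], 37), ([10, 2], 65)]),
  ([10, 4, 10, 2], [([3, 11], 37), ([], 65)]),
  ([10, 6, 10, 6], [([], 41), ([10, 6], 65)]),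
  ([10, 8, 10, 8], [([], 43), ([10, 8], 65)]),
  ([12, 2, 12, 2], [([], 45), ([12, 2], 67)]),
  ([12, 4, 12, 6], [([], 47), ([12, 4], 67)]),
  ([12, 6, 12, 4], [([5, 13], 47), ([], 67)]),
  ([12, 8, 12, 8], [([], 51), ([12, 8], 67)]),
  ([14, 2, 14, 2], [([], 53), ([14, 2], 69)]),
  ([14, 4, 14, 4], [([], 55), ([14, 4], 69)]),
  ([14, 6, 14, 8], [([], 57), ([14, 6], 69)]),
  ([14, 8, 14, 6], [([7, 15], 57), ([], 69)]),
  ([10, 12, 10, 12, 10, 12], [([], 61), ([10, 12, 10, 13, 11], 67), ([10, 12, 10, 13], 65), ([10, 12, 10], 67)]),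
  ([12, 14, 12, 14, 12, 14], [([], 63), ([12, 14, 12, 15, 13], 69), ([12, 14, 12, 15], 67), ([12, 14, 12], 69)]),
  ([10, 14, 10, 14], [([], 71), ([10, 14, 11], 69), ([10, 14], 65)])]
    (by decide +kernel)
theorem bnd01 : Bnd (RH false true) 8 768 :=
  Bnd.tc bndE (n := 24) (fun g ω => T54.E32H01.enum g ω) (by decide) [0, 2, 4, 6, 8, 10, 12, 14] rfl (fun _ h => h)
    [[0],
  [2],
  [4],
  [6],
  [8]]
    [([10, 0, 10, 0], [([], 31), ([10, 0], 65)]),
  ([12, 0, 12, 0], [([], 33), ([12, 0], 67)]),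
  ([14, 0, 14, 0], [([], 35), ([14, 0], 69)]),
  ([10, 2, 10, 4], [([], 37), ([10, 2], 65)]),
  ([10, 4, 10, 2], [([3, 11], 37), ([], 65)]),
  ([10, 6, 10, 6], [([], 41), ([10, 6], 65)]),
  ([10, 8, 10, 8], [([], 43), ([10, 8], 65)]),
  ([12, 2, 12, 2], [([], 45), ([12, 2], 67)]),
  ([12, 4, 12, 6], [([], 47), ([12, 4], 67)]),
  ([12, 6, 12, 4], [([5, 13], 47), ([], 67)]),
  ([12, 8, 12, 8], [([], 51), ([12, 8], 67)]),
  ([14, 2, 14, 2], [([], 53), ([14, 2], 69)]),
  ([14, 4, 14, 4], [([], 55), ([14, 4], 69)]),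
  ([14, 6, 14, 8], [([], 57), ([14, 6], 69)]),
  ([14, 8, 14, 6], [([7, 15], 57), ([], 69)]),
  ([10, 12, 10, 12, 10, 12], [([], 61), ([10, 12, 10, 13, 11], 67), ([10, 12, 10, 13], 65), ([10, 12, 10], 67)]),
  ([12, 14, 12, 14, 12, 14], [([], 63), ([12, 14, 12, 15, 13], 69), ([12, 14, 12, 15], 67), ([12, 14, 12], 69)]),
  ([10, 14, 10, 14, 0], [([], 71), ([10, 14, 11], 69), ([10, 14], 65)])]
    (by decide +kernel)
theorem bnd10 : Bnd (RH true false) 8 768 :=
  Bnd.tc bndE (n := 24) (fun g ω => T54.E32H10.enum g ω) (by decide) [0, 2, 4, 6, 8, 10, 11, 12, 13, 14, 15] rfl (icol_ge _ rfl)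
    [[0],
  [2],
  [4],
  [6],
  [8]]
    [([10, 11], []),
  ([11, 10], []),
  ([12, 13], []),
  ([13, 12], []),
  ([14, 15], []),
  ([15, 14], [])]
    (by decide +kernel)
theorem bnd11 : Bnd (RH true true) 8 768 :=
  Bnd.tc bndE (n := 24) (fun g ω => T54.E32H11.enum g ω) (by decide) [0, 2, 4, 6, 8, 10, 11, 12, 13, 14, 15] rfl (icol_ge _ rfl)
    [[0],
  [2],
  [4],
  [6],
  [8]]
    [([10, 11], []),
  ([11, 10], []),
  ([12, 13], []),
  ([13, 12], []),
  ([14, 15], []),
  ([15, 14], [])]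
    (by decide +kernel)

theorem bnd (α β : Bool) : Bnd (RH α β) 8 768 := by
  cases α <;> cases β
  exacts [bnd00, bnd01, bnd10, bnd11]

/-- the generators -/
def gn (α β : Bool) (i : ℕ) : W α β := W.of (List.getD [1, 2, 4, 8, 16, 192, 64, 32] i 0)

/-- the normal forms -/
def nf (u : ℕ) : List ℕ := ([1, 2, 3, 4, 0].filter fun i => u.testBit i).map (2 * ·) ++
  List.getD [[],
  [14],
  [12],
  [12, 14],
  [14, 12],
  [12, 14, 12],
  [10],
  [10, 14],
  [10, 12],
  [10, 12, 14],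
  [10, 14, 12],
  [10, 12, 14, 12],
  [12, 10],
  [12, 10, 14],
  [10, 12, 10],
  [10, 12, 10, 14],
  [12, 10, 14, 12],
  [10, 12, 10, 14, 12],
  [14, 12, 10],
  [12, 14, 12, 10],
  [10, 14, 12, 10],
  [10, 12, 14, 12, 10],
  [12, 10, 14, 12, 10],
  [10, 12, 10, 14, 12, 10]] (u / 32) []

theorem gn_ok : ∀ α β : Bool, (∀ w ∈ RH α β, evW (gn α β) w = 1) ∧
    ∀ u : W α β, (evW (gn α β) (nf u.val) = u ∨ gn α β 0 * evW (gn α β) (nf u.val) = u) ∧
      ∀ l ∈ nf u.val, l < 2 * 8 := by decide +kernel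

theorem exists_hom {G : Type*} [Group G] [Finite G] {α β : Bool} {x : ℕ → G} (h : Rels (RH α β) x) :
    ∃ φ : W α β →* G, ∀ i < 8, φ (gn α β i) = x i := by
  let e : Shrink.{0} G ≃* G := Shrink.mulEquiv
  obtain ⟨θ, k⟩ := (bnd α β).hom (gn_ok α β).1 (eq_top_iff.2 fun u _ => by
    have := evW_mem_gen (gn α β) ((gn_ok α β).2 u).2
    rcases ((gn_ok α β).2 u).1 with e | e <;> rw [← e]
    exacts [this, mul_mem (mem_gen _ (by norm_num)) this]) W.card.ge (h.map e.symm.toMonoidHom)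
  exact ⟨e.toMonoidHom.comp θ, fun i hi => by simp [k i hi]⟩

theorem eqns_W : True := by
  have := @lk.eq_1
  have := @ix.eq_1
  have := @mE.eq_1
  have := @ac.eq_1
  have := @pm.eq_1
  have := @iE.eq_1
  have := @iP.eq_1
  have := @co.eq_1
  have := @mulN.eq_1
  have := @invN.eq_1
  have := @W.of.eq_1
  have := @W.equivFin.eq_1
  have := @W.sub.eq_1
  have := @W.pre.eq_1
  have := @RE.eq_1
  have := @RA.eq_1
  have := @RH.eq_1
  have := @gn.eq_1
  have := @nf.eq_1
  trivial

end H40.E32
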