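import Cfsg.Agent.Lib.JJ.Frame
import Cfsg.Agent.Lib.E32.W

/-! # Generators and relations of a group `2^{1+4}_- . S₄` (helper40) -/

set_option autoImplicit false
set_option linter.unusedSimpArgs false
set_option linter.unusedSectionVars false

namespace H40.E32

open Subgroup H95 H74.JJ Equiv H54

variable {G : Type*} [Group G]

/-- the hypothesis on the centraliser of `z` -/
structure Hy (Q : Subgroup G) (z : G) : Prop extends L3 Q z where
  card : Nat.card Q = 32
  no8 : ∀ u ∈ Q, ∀ v ∈ Q, u * u = 1 → v * v = 1 → u * v = v * u →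
    u = 1 ∨ u = z ∨ v = 1 ∨ v = z ∨ v = u ∨ v = u * z
  quo : ∃ π : centralizer ({z} : Set G) →* Perm (Fin 4), Function.Surjective π ∧
    ∀ g, π g = 1 ↔ (g : G) ∈ Q

theorem two_mul_le [Finite G] {A B : Subgroup G} (h : A ≤ B) {x : G} (hx : x ∈ B) (hn : x ∉ A) :
    2 * Nat.card A ≤ Nat.card B := by
  obtain ⟨k, hk⟩ := card_dvd_of_le h
  have h0 : k ≠ 0 := by rintro rfl; exact Nat.card_pos.ne' hk
  have h1 : k ≠ 1 := by
    rintro rfl
    exact hn ((eq_of_le_of_card_ge h (by omega)).ge hx)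
  rw [hk, mul_comm]
  exact Nat.mul_le_mul_left _ (by omega)

theorem rot {z : G} {s : Fin 5 → G} (c : Cl z s) : Cl z fun j => s (j + 1) :=
  ⟨c.zz, c.z1, fun _ => c.sq _, fun _ => c.cz _, fun i j e => c.ac _ _ (by simpa using e), by
    show s 0 = s 1 * (s 2 * (s 3 * s 4))
    simp only [c.prod, c.sort, mul_one]⟩

theorem rot_pow {z : G} {s : Fin 5 → G} (c : Cl z s) (k : Fin 5) : Cl z fun j => s (j + k) := by
  have h : ∀ n : ℕ, Cl z fun j => s (j + Fin.ofNat 5 n) := fun n => by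
    induction n with
    | zero => simpa using c
    | succ n ih =>
      have e : Fin.ofNat 5 (n + 1) = 1 + Fin.ofNat 5 n := Fin.ext (by simp [Fin.val_add, add_comm])
      simpa only [e, add_assoc] using rot ih
  simpa using h k

/-- `h` permutes four involutions by `σ` -/
def Ex4 (z : G) (s : Fin 5 → G) (h : G) (σ : Perm (Fin 4)) : Prop :=
  h * z = z * h ∧ ∀ i : Fin 4, h * s i.castSucc * h⁻¹ = s (σ i).castSucc

namespace Ex4

variable {z : G} {s : Fin 5 → G} {g h : G} {σ τ : Perm (Fin 4)}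

theorem mul (a : Ex4 z s g σ) (b : Ex4 z s h τ) : Ex4 z s (g * h) (σ * τ) :=
  ⟨by rw [mul_assoc, b.1, ← mul_assoc, a.1, mul_assoc], fun i => by
    rw [Perm.mul_apply, ← a.2, ← b.2]; group⟩

theorem inv (a : Ex4 z s g σ) : Ex4 z s g⁻¹ σ⁻¹ :=
  ⟨(show Commute g z from a.1).inv_left, fun i => by
    have := a.2 (σ⁻¹ i)
    rw [Perm.inv_def, Equiv.apply_symm_apply] at this
    rw [← this]; group; rfl⟩

theorem mul_z (c : Cl z s) (a : Ex4 z s g σ) : Ex4 z s (g * z) σ := by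
  have : Ex4 z s z 1 := ⟨rfl, fun i => by rw [c.cz]; simp⟩
  simpa using a.mul this

end Ex4

theorem exists_ex {z : G} {s : Fin 5 → G} (c : Cl z s) {σ : Perm (Fin 5)} {g : G} (hg : g * z = z * g)
    (h1 : ∀ i, g * s i * g⁻¹ = s (σ i) ∨ g * s i * g⁻¹ = s (σ i) * z) {τ : Perm (Fin 4)}
    (h2 : ∀ i : Fin 4, σ i.castSucc = (τ i).castSucc) : ∃ k, Ex4 z s k τ := by
  have key : ∀ m : ℕ, m ≤ 4 → ∃ g, g * z = z * g ∧
      (∀ i, g * s i * g⁻¹ = s (σ i) ∨ g * s i * g⁻¹ = s (σ i) * z) ∧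
      ∀ i : Fin 5, (i : ℕ) < m → g * s i * g⁻¹ = s (σ i) := by
    intro m
    induction m with
    | zero => exact fun _ => ⟨g, hg, h1, fun i hi => absurd hi (Nat.not_lt_zero _)⟩
    | succ m ih =>
      intro hm
      obtain ⟨g, hg, h1, h3⟩ := ih (by omega)
      let k : Fin 5 := ⟨m, by omega⟩
      have hk : k ≠ 4 := fun e => by have := congrArg Fin.val e; simp [k] at this; omega
      rcases h1 k with e | e
      · refine ⟨g, hg, h1, fun i hi => ?_⟩
        rcases Nat.lt_succ_iff_lt_or_eq.1 hi with e' | e'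
        exacts [h3 i e', by rw [show i = k from Fin.ext e']; exact e]
      · have h4 : ∀ i, g * (s k * s 4) * s i * (g * (s k * s 4))⁻¹ =
            if i = k ∨ i = 4 then g * s i * g⁻¹ * z else g * s i * g⁻¹ := fun i => by
          calc _ = g * (s k * s 4 * s i * (s k * s 4)⁻¹) * g⁻¹ := by group
            _ = _ := by
              rw [c.flip hk]
              split_ifs
              · rw [← mul_assoc, mul_assoc _ z, (show Commute g z from hg).inv_left.symm.eq,
                  ← mul_assoc]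
              · rfl
        refine ⟨g * (s k * s 4), by rw [← mul_assoc z, ← hg, mul_assoc g z, c.cz', c.cz,
          mul_assoc, mul_assoc], fun i => ?_, fun i hi => ?_⟩ <;> rw [h4]
        · split_ifs
          · rcases h1 i with e' | e' <;> rw [e']
            exacts [Or.inr rfl, Or.inl (by rw [mul_assoc, c.zz, mul_one])]
          · exact h1 i
        · rcases Nat.lt_succ_iff_lt_or_eq.1 hi with e' | e'
          · rw [if_neg, h3 i e']
            rintro (f | f) <;> have := congrArg Fin.val f <;> simp [k] at this <;> omega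
          · rw [show i = k from Fin.ext e', if_pos (Or.inl rfl), e, mul_assoc, c.zz, mul_one]
  obtain ⟨k, hk, -, h3⟩ := key 4 le_rfl
  exact ⟨k, hk, fun i => by rw [h3 _ (by simp), h2]⟩

namespace Hy

variable [Finite G] {Q : Subgroup G} {z : G} {s : Fin 5 → G}

theorem conj_mem (h : Hy Q z) {g u : G} (hg : g * z = z * g) (hu : u ∈ Q) : g * u * g⁻¹ ∈ Q :=
  conj_mem_of_normalizer (h.norm g hg) hu

theorem cardH (h : Hy Q z) : Nat.card (centralizer ({z} : Set G)) = 768 := by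
  obtain ⟨π, h1, h2⟩ := h.quo
  have h3 : π.ker = Q.subgroupOf _ := Subgroup.ext fun g => h2 g
  have h4 := π.ker.card_mul_index
  rw [index_ker, h3, Nat.card_congr (subgroupOfEquivOfLe h.le_centralizer).toEquiv, h.card,
    MonoidHom.range_eq_top.2 h1, card_top, Nat.card_perm, Nat.card_fin] at h4
  exact h4.symm

theorem exists_invol (h : Hy Q z) : ∃ s ∈ Q, s * s = 1 ∧ s ≠ 1 ∧ s ≠ z := by
  obtain ⟨u, hu, y, hy, hne⟩ := h.nonab
  have u1 : u ≠ 1 := by rintro rfl; simp at hne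
  have u2 : u ≠ z := by rintro rfl; exact hne (h.central y hy).symm
  rcases h.sq_mem hu with e | e
  · exact ⟨u, hu, e, u1, u2⟩
  have h1 := h.card_centralizer hu u1 u2
  rw [h.card] at h1
  obtain ⟨v, hv, hv'⟩ : ∃ v ∈ Q ⊓ centralizer {u}, v ∉ zpowers u := by
    by_contra hc
    push Not at hc
    have h2 := card_le_of_le (show Q ⊓ centralizer {u} ≤ zpowers u from hc)
    have h3 := orderOf_le_of_pow_eq_one (by norm_num) (h.pow_four hu)
    rw [Nat.card_zpowers] at h2
    omega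
  have hz : z ∈ zpowers u := e ▸ mul_mem (mem_zpowers u) (mem_zpowers u)
  rcases h.sq_mem hv.1 with e' | e'
  · exact ⟨v, hv.1, e', fun f => hv' (f ▸ one_mem _), fun f => hv' (f ▸ hz)⟩
  · refine ⟨u * v, mul_mem hu hv.1, ?_, fun f => hv' ?_, fun f => hv' ?_⟩
    · rw [mul_assoc, ← mul_assoc v, mem_cent_iff.1 hv.2, mul_assoc, e', ← mul_assoc, e, h.sq]
    · rw [← inv_eq_of_mul_eq_one_right f]; exact inv_mem (mem_zpowers u)
    · rw [← inv_mul_cancel_left u v, f]; exact mul_mem (inv_mem (mem_zpowers u)) hz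

theorem exists_cl (h : Hy Q z) :
    ∃ s : Fin 5 → G, Cl z s ∧ closure (insert z (Set.range s)) = Q := by
  classical
  have cm : ∀ {g a b : G}, g * a = a * g → g * b = b * g → g * (a * b) = a * b * g := H70.TM.comm_mul
  obtain ⟨r, hr, rr, r1, rz⟩ := h.exists_invol
  obtain ⟨y, hy, yy, yr⟩ : ∃ y ∈ Q, y * y = 1 ∧ y * r ≠ r * y := by
    obtain ⟨y, hy, e⟩ := h.exists_noncomm hr r1 rz
    rcases h.sq_mem hy with f | f
    · exact ⟨y, hy, f, e⟩
    · refine ⟨r * y, mul_mem hr hy, ?_, fun k => e (mul_left_cancel (a := r) (by rw [← k, mul_assoc]))⟩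
      rw [mul_assoc, ← mul_assoc y, (h.comm y hy r hr).resolve_left e, mul_assoc _ z,
        ← h.central y hy, ← mul_assoc, ← mul_assoc, ← mul_assoc, rr, one_mul, f, h.sq]
  have adj : ∀ q ∈ Q, q * r = r * q → q * y = y * q ∨ q * r * y = y * (q * r) := fun q hq e =>
    (em _).imp_right fun c => h.mul_comm_of_ne hy hq hr c yr.symm
  obtain ⟨a, ha, ar, ay, a1⟩ : ∃ a ∈ Q, a * r = r * a ∧ a * y = y * a ∧ ¬ (a = 1 ∨ a = z) := by
    by_contra hn
    push Not at hn
    have : ((Q ⊓ centralizer ({r} : Set G) : Subgroup G) : Set G) ⊆ ({1, z, r, z * r} : Finset G) := by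
      rintro q ⟨hq, e⟩
      replace e := mem_cent_iff.1 e
      have e' : q = q * r * r := by rw [mul_assoc, rr, mul_one]
      rcases adj q hq e with c | c
      · rcases hn q hq e c with f | f <;> simp [f]
      · rcases hn _ (mul_mem hq hr) (by rw [← mul_assoc, e]) c with f | f <;> rw [e', f] <;> simp
    have a := Set.ncard_le_ncard this
    have b := h.card_centralizer hr r1 rz
    rw [Set.ncard_coe_finset] at a
    replace a : Nat.card (Q ⊓ centralizer ({r} : Set G) : Subgroup G) ≤ 4 := a.trans Finset.card_le_four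
    rw [h.card] at b
    omega
  obtain ⟨b, hb, br, bz, ba⟩ : ∃ b ∈ Q, b * r = r * b ∧ b * y = y * b ∧ b * a ≠ a * b := by
    have k : ∀ {w u : G}, a * u = u * a → w * a ≠ a * w → w * u * a ≠ a * (w * u) := fun e c f =>
      c (by rw [mul_assoc, ← e, ← mul_assoc, ← mul_assoc] at f; exact mul_right_cancel f)
    obtain ⟨w, hw, wr, wa⟩ : ∃ w ∈ Q, w * r = r * w ∧ w * a ≠ a * w := by
      obtain ⟨w, hw, e⟩ := h.exists_noncomm ha (fun e => a1 (Or.inl e)) fun e => a1 (Or.inr e)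
      by_cases c : w * r = r * w
      exacts [⟨w, hw, c, e⟩, ⟨_, mul_mem hw hy, h.mul_comm_of_ne hr hw hy c yr, k ay e⟩]
    rcases adj w hw wr with c | c
    exacts [⟨w, hw, wr, c, wa⟩, ⟨_, mul_mem hw hr, by rw [← mul_assoc, wr], c, k ar wa⟩]
  have sq : ∀ c ∈ Q, c * r = r * c → c * y = y * c → ¬ (c = 1 ∨ c = z) → c * c = z :=
    fun c hc e e' n => (h.sq_mem hc).resolve_left fun f => by
      rcases h.no8 r hr c hc rr f e.symm with k | k | k | k | k | k
      exacts [r1 k, rz k, n (Or.inl k), n (Or.inr k), yr (k ▸ e').symm, yr (by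
        rw [k, mul_assoc, ← h.central y hy, ← mul_assoc, ← mul_assoc] at e'
        exact (mul_right_cancel e').symm)]
  have aa := sq a ha ar ay a1
  have bb := sq b hb br bz (by rintro (rfl | rfl); exacts [ba (by simp), ba (h.central a ha).symm])
  have e1 := (h.comm y hy r hr).resolve_left yr
  have e2 := (h.comm b hb a ha).resolve_left ba
  have ex : ∀ {u v w : G}, u * v = w → ∀ t, u * (v * t) = w * t := fun e t => by rw [← mul_assoc, e]
  have z1 := (h.central r hr).symm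
  have z2 := (h.central y hy).symm
  have z3 := (h.central a ha).symm
  have z4 := (h.central b hb).symm
  let s : Fin 5 → G := ![r, y, r * y * a, r * y * b, r * (y * (r * y * a * (r * y * b)))]
  have m : ∀ i, s i ∈ closure (insert z (Set.range s)) := fun i => subset_closure (Or.inr ⟨i, rfl⟩)
  refine ⟨s, ⟨h.sq, h.ne_one, fun i => ?_, fun i => ?_, fun i j e => ?_, rfl⟩, ?_⟩
  · fin_cases i <;> simp [s, mul_assoc, rr, yy, aa, bb, h.sq, e1, e2, ar, ay, br, bz, z1, z2, z3, z4,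
      ex rr, ex yy, ex aa, ex bb, ex h.sq, ex e1, ex e2, ex ar, ex ay, ex br, ex bz, ex z1, ex z2,
      ex z3, ex z4]
  · fin_cases i <;> simp [s, mul_assoc, rr, yy, aa, bb, h.sq, e1, e2, ar, ay, br, bz, z1, z2, z3, z4,
      ex rr, ex yy, ex aa, ex bb, ex h.sq, ex e1, ex e2, ex ar, ex ay, ex br, ex bz, ex z1, ex z2,
      ex z3, ex z4]
  · fin_cases i <;> fin_cases j <;> first
      | exact absurd rfl e
      | simp [s, mul_assoc, rr, yy, aa, bb, h.sq, e1, e2, ar, ay, br, bz, z1, z2, z3, z4,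
        ex rr, ex yy, ex aa, ex bb, ex h.sq, ex e1, ex e2, ex ar, ex ay, ex br, ex bz, ex z1, ex z2,
        ex z3, ex z4]
  have le : closure (insert z (Set.range s)) ≤ Q := by
    rw [closure_le]
    rintro _ (rfl | ⟨i, rfl⟩)
    · exact h.mem
    · have := mul_mem hr hy
      fin_cases i
      exacts [hr, hy, mul_mem this ha, mul_mem this hb,
        mul_mem hr (mul_mem hy (mul_mem (mul_mem this ha) (mul_mem this hb)))]
  have mz : z ∈ closure (insert z (Set.range s)) := subset_closure (Or.inl rfl)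
  have mr : r ∈ _ := m 0
  have my : y ∈ _ := m 1
  have ma : a ∈ _ := (mul_mem_cancel_left (mul_mem mr my)).1 (m 2)
  have mb : b ∈ _ := (mul_mem_cancel_left (mul_mem mr my)).1 (m 3)
  generalize closure (insert z (Set.range s)) = X at *
  have c := @mem_cent_iff G _
  have k4 := two_mul_le (inf_le_left : X ⊓ centralizer {a} ≤ X) mb fun k => ba (c.1 k.2)
  have k3 := two_mul_le (inf_le_left : X ⊓ centralizer {a} ⊓ centralizer {b} ≤ _) ⟨ma, c.2 rfl⟩
    fun k => ba (c.1 k.2).symm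
  have k2 := two_mul_le (inf_le_left : X ⊓ centralizer {a} ⊓ centralizer {b} ⊓ centralizer {r} ≤ _)
    ⟨⟨my, c.2 ay.symm⟩, c.2 bz.symm⟩ fun k => yr (c.1 k.2)
  have k1 := two_mul_le (inf_le_left :
    X ⊓ centralizer {a} ⊓ centralizer {b} ⊓ centralizer {r} ⊓ centralizer {y} ≤ _)
    ⟨⟨⟨mr, c.2 ar.symm⟩, c.2 br.symm⟩, c.2 rfl⟩ fun k => yr (c.1 k.2).symm
  have k0 := two_mul_le (bot_le :
    ⊥ ≤ X ⊓ centralizer {a} ⊓ centralizer {b} ⊓ centralizer {r} ⊓ centralizer {y})
    ⟨⟨⟨⟨mz, c.2 z3⟩, c.2 z4⟩, c.2 z1⟩, c.2 z2⟩ h.ne_one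
  rw [card_bot] at k0
  exact eq_of_le_of_card_ge le (by rw [h.card]; omega)

theorem exists_theta (h : Hy Q z) (c : Cl z s) (gen : closure (insert z (Set.range s)) = Q) :
    ∃ θ : centralizer ({z} : Set G) →* Perm (Fin 5),
      (∀ g i j, θ g i = j ↔ (g : G) * s i * (g : G)⁻¹ = s j ∨ (g : G) * s i * (g : G)⁻¹ = s j * z) ∧
      ∀ g, θ g = 1 ↔ (g : G) ∈ Q := by
  have sQ : ∀ i, s i ∈ Q := fun i => gen ▸ subset_closure (Or.inr ⟨i, rfl⟩)
  have hgz : ∀ g : centralizer ({z} : Set G), (g : G) * z * (g : G)⁻¹ = z := fun g => by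
    rw [mem_cent_iff.1 g.2, mul_inv_cancel_right]
  have ex : ∀ (g : centralizer ({z} : Set G)) i,
      ∃ j, (g : G) * s i * (g : G)⁻¹ = s j ∨ (g : G) * s i * (g : G)⁻¹ = s j * z := by
    intro g i
    rcases c.invol (gen ▸ h.conj_mem (mem_cent_iff.1 g.2) (sQ i)) (by
      calc _ = (g : G) * (s i * s i) * (g : G)⁻¹ := by group
        _ = 1 := by rw [c.sq]; group) with e | e | e
    · exact absurd (by simpa using e) (c.ne_one i).1
    · exact absurd (by simpa using e.trans (hgz g).symm) (c.ne_one i).2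
    · exact e
  choose f hf using ex
  let F : centralizer ({z} : Set G) →* Function.End (Fin 5) :=
    { toFun := f
      map_one' := funext fun i => c.eq_of_or (hf 1 i) (Or.inl (by simp; rfl))
      map_mul' := fun g k => funext fun i => c.eq_of_or (hf (g * k) i) (by
        show _ = s (f g (f k i)) ∨ _ = s (f g (f k i)) * z
        have e : ((g * k : centralizer ({z} : Set G)) : G) * s i *
            ((g * k : centralizer ({z} : Set G)) : G)⁻¹ =
            (g : G) * ((k : G) * s i * (k : G)⁻¹) * (g : G)⁻¹ := by rw [coe_mul]; group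
        rw [e]
        rcases hf k i with e1 | e1 <;> rw [e1]
        · exact hf g _
        · have e2 : (g : G) * (s (f k i) * z) * (g : G)⁻¹ =
              (g : G) * s (f k i) * (g : G)⁻¹ * ((g : G) * z * (g : G)⁻¹) := by group
          rw [e2, hgz]
          rcases hf g (f k i) with e3 | e3 <;> rw [e3]
          exacts [Or.inr rfl, Or.inl (by rw [mul_assoc, c.zz, mul_one])]) }
  have h1 : ∀ g i j, F.toHomPerm g i = j ↔
      (g : G) * s i * (g : G)⁻¹ = s j ∨ (g : G) * s i * (g : G)⁻¹ = s j * z :=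
    fun g i j => ⟨fun e => e ▸ hf g i, fun e => c.eq_of_or (hf g i) e⟩
  refine ⟨F.toHomPerm, h1, fun g => ⟨fun e => h.mem_of_trivial fun u hu => ?_,
    fun e => Perm.ext fun i => (h1 g i i).2 (h.conj (sQ i) e)⟩⟩
  have step : ∀ u ∈ insert z (Set.range s), ∀ v ∈ Q,
      (g : G) * v * (g : G)⁻¹ = v ∨ (g : G) * v * (g : G)⁻¹ = v * z →
      (g : G) * (u * v) * (g : G)⁻¹ = u * v ∨ (g : G) * (u * v) * (g : G)⁻¹ = u * v * z := by
    intro u hu v hv ih
    have e2 : (g : G) * u * (g : G)⁻¹ = u ∨ (g : G) * u * (g : G)⁻¹ = u * z := by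
      rcases hu with rfl | ⟨i, rfl⟩
      exacts [Or.inl (hgz g), (h1 g i i).1 (by rw [e]; rfl)]
    have e3 := h.central v hv
    rw [← conj_mul]
    rcases e2 with e2 | e2 <;> rcases ih with ih | ih <;> rw [e2, ih]
    · exact Or.inl rfl
    · exact Or.inr (mul_assoc _ _ _).symm
    · exact Or.inr (by rw [mul_assoc, ← e3, mul_assoc])
    · exact Or.inl (by rw [e3, mul_assoc, c.zz'])
  rw [← gen] at hu
  induction hu using closure_induction_left with
  | one => simp
  | mul_left u hu v hv ih => exact step u hu v (gen ▸ hv) ih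
  | inv_mul_cancel u hu v hv ih =>
    have e0 : u⁻¹ = u := by
      rcases hu with rfl | ⟨i, rfl⟩
      exacts [c.zinv, c.inv i]
    rw [e0]
    exact step u hu v (gen ▸ hv) ih

theorem fix_four : ∀ a : Perm (Fin 5), a * a = 1 → ∀ b : Perm (Fin 5), b * b * b = 1 →
    a * b * (a * b) = 1 ∨ a * b * (a * b) * (a * b * (a * b)) ≠ 1 ∨ ∃ i, a i = i ∧ b i = i := by
  decide +kernel

theorem exists_fix (h : Hy Q z) : ∃ s : Fin 5 → G, Cl z s ∧ closure (insert z (Set.range s)) = Q ∧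
    ∀ g, g * z = z * g → g * s 4 * g⁻¹ = s 4 ∨ g * s 4 * g⁻¹ = s 4 * z := by
  obtain ⟨s, c, gen⟩ := h.exists_cl
  obtain ⟨θ, h1, h2⟩ := h.exists_theta c gen
  obtain ⟨π, p1, p2⟩ := h.quo
  have k : ∀ g, θ g = 1 ↔ π g = 1 := fun g => (h2 g).trans (p2 g).symm
  obtain ⟨x, hx⟩ := p1 (swap 0 1)
  obtain ⟨y, hy⟩ := p1 (swap 0 1 * finRotate 4)
  obtain ⟨i, i1, i2⟩ := ((fix_four (θ x) (by rw [← map_mul, k, map_mul, hx]; decide) (θ y)
    (by simp only [← map_mul, k]; simp only [map_mul, hy]; decide)).resolve_left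
    (by simp only [← map_mul, k]; simp only [map_mul, hx, hy]; decide)).resolve_left
    (by simp only [← map_mul, Ne, k]; simp only [map_mul, hx, hy]; decide)
  have top : ((MulAction.stabilizer (Perm (Fin 5)) i).comap θ).map π = ⊤ := by
    rw [eq_top_iff, ← Perm.closure_cycle_adjacent_swap (isCycle_finRotate (n := 2))
      (support_finRotate (n := 2)) 0, closure_le]
    rintro _ (rfl | rfl)
    · exact ⟨x * y, mul_mem (show x ∈ comap θ _ from i1) (show y ∈ comap θ _ from i2), by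
        rw [map_mul, hx, hy, swap_mul_self_mul]⟩
    · exact ⟨x, i1, hx⟩
  refine ⟨fun j => s (j + (i + 1)), rot_pow c _, ?_, fun g hg => ?_⟩
  · rw [← gen, show (fun j => s (j + (i + 1))) = s ∘ Equiv.addRight (i + 1) from rfl,
      (Equiv.surjective _).range_comp]
  · obtain ⟨w, hw, e⟩ := top.ge (mem_top (π ⟨g, mem_cent_iff.2 hg⟩))
    have e1 : θ w = θ ⟨g, mem_cent_iff.2 hg⟩ := by
      rw [← inv_mul_eq_one, ← map_inv, ← map_mul, k, map_mul, map_inv, e, inv_mul_cancel]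
    have e2 : (4 : Fin 5) + (i + 1) = i := (by decide : ∀ i : Fin 5, 4 + (i + 1) = i) i
    simp only [e2]
    exact (h1 ⟨g, mem_cent_iff.2 hg⟩ i i).1 (e1 ▸ hw)

omit [Finite G] in
theorem eq_of_ex (h : Hy Q z) (c : Cl z s) (gen : closure (insert z (Set.range s)) = Q) {g : G}
    {σ : Perm (Fin 4)} (e : Ex4 z s g σ) (hσ : σ = 1) : g = 1 ∨ g = z := by
  subst hσ
  refine h.cent g fun u hu => ?_
  rw [← gen] at hu
  refine mem_cent_iff.1 ((show Subgroup.closure _ ≤ centralizer {g} from (closure_le _).2 ?_) hu)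
  have k : ∀ i : Fin 4, s i.castSucc ∈ centralizer {g} := fun i =>
    mem_cent_iff.2 (mul_inv_eq_iff_eq_mul.1 (e.2 i)).symm
  rintro _ (rfl | ⟨i, rfl⟩)
  · exact mem_cent_iff.2 e.1.symm
  · fin_cases i
    exacts [k 0, k 1, k 2, k 3, by
      show s 4 ∈ _
      rw [c.prod]; exact mul_mem (k 0) (mul_mem (k 1) (mul_mem (k 2) (k 3)))]

theorem exists_rels (h : Hy Q z) : ∃ (α β : Bool) (x : ℕ → G), Rels (RH α β) x ∧ x 0 = z := by
  obtain ⟨s, c, gen, fx⟩ := h.exists_fix
  obtain ⟨θ, h1, h2⟩ := h.exists_theta c gen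
  have ran : θ.range = MulAction.stabilizer (Perm (Fin 5)) (4 : Fin 5) := by
    refine eq_of_le_of_card_ge (by
      rintro _ ⟨g, rfl⟩
      exact (h1 g 4 4).2 (fx g (mem_cent_iff.1 g.2))) ?_
    have h3 : θ.ker = Q.subgroupOf _ := Subgroup.ext fun g => h2 g
    have h4 := θ.ker.card_mul_index
    rw [index_ker, h3, Nat.card_congr (subgroupOfEquivOfLe h.le_centralizer).toEquiv, h.card,
      h.cardH] at h4
    have h5 := (MulAction.stabilizer (Perm (Fin 5)) (4 : Fin 5)).card_mul_index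
    rw [MulAction.index_stabilizer_of_transitive, Nat.card_perm, Nat.card_fin] at h5
    simp only [Nat.factorial] at h5
    omega
  have lift : ∀ (σ : Perm (Fin 5)) (τ : Perm (Fin 4)),
      σ 4 = 4 ∧ (∀ i : Fin 4, σ i.castSucc = (τ i).castSucc) → ∃ k, Ex4 z s k τ := fun σ τ e => by
    obtain ⟨g, rfl⟩ := ran.ge (show σ ∈ MulAction.stabilizer _ _ from e.1)
    exact exists_ex c (mem_cent_iff.1 g.2) (fun i => (h1 g i _).1 rfl) e.2
  obtain ⟨t, et⟩ := lift (swap 0 1) (swap 0 1) (by decide)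
  obtain ⟨u₀, eu⟩ := lift (swap 1 2) (swap 1 2) (by decide)
  obtain ⟨v₀, ev⟩ := lift (swap 2 3) (swap 2 3) (by decide)
  have braid : ∀ {g k : G} {σ τ : Perm (Fin 4)}, Ex4 z s g σ → Ex4 z s k τ →
      σ * τ * σ * (τ * σ * τ)⁻¹ = 1 → ∃ k', Ex4 z s k' τ ∧ g * k' * g = k' * g * k' ∧ k' * k' = g * g ∨
        Ex4 z s k' τ ∧ g * k' * g = k' * g * k' ∧ ¬ (g * g = 1 ∨ g * g = z) := by
    intro g k σ τ a b e
    have f : ∀ k', Ex4 z s k' τ → g * k' * g = k' * g * k' → Ex4 z s k' τ ∧ g * k' * g = k' * g * k' ∧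
        k' * k' = g * g ∨ Ex4 z s k' τ ∧ g * k' * g = k' * g * k' ∧ ¬ (g * g = 1 ∨ g * g = z) :=
      fun k' b f => (em (g * g = 1 ∨ g * g = z)).imp (fun n => ⟨b, f, by
        have e1 : k' = g * k' * g * (g * k')⁻¹ := by rw [f]; group
        rw [e1, conj_mul]
        rcases n with n | n <;> rw [n]
        · simp
        · rw [(a.mul b).1, mul_inv_cancel_right]⟩) fun n => ⟨b, f, n⟩
    rcases h.eq_of_ex c gen (((a.mul b).mul a).mul ((b.mul a).mul b).inv) e with k1 | k1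
    · exact ⟨k, f k b (mul_inv_eq_one.1 k1)⟩
    · refine ⟨k * z, f _ (b.mul_z c) ?_⟩
      rw [mul_inv_eq_iff_eq_mul] at k1
      rw [← mul_assoc, mul_assoc _ z, ← a.1, ← mul_assoc, k1, mul_assoc k z, ← a.1, ← mul_assoc k,
        mul_assoc _ z, ← mul_assoc z k, ← b.1, mul_assoc k z, c.zz, mul_one, ← ((b.mul a).mul b).1,
        mul_assoc _ z, c.zz, mul_one]
  have tt := h.eq_of_ex c gen (et.mul et) (by decide)
  obtain ⟨u, ⟨eu, b1, uu⟩ | ⟨-, -, n⟩⟩ := braid et eu (by decide)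
  swap
  · exact absurd tt n
  obtain ⟨v, ⟨ev, b2, vv⟩ | ⟨-, -, n⟩⟩ := braid eu ev (by decide)
  swap
  · exact absurd (uu ▸ tt) n
  have tv := h.eq_of_ex c gen (((et.mul ev).mul et.inv).mul ev.inv) (by decide)
  obtain ⟨α, ha⟩ : ∃ α : Bool, t * t = cond α z 1 := tt.elim (⟨false, ·⟩) (⟨true, ·⟩)
  obtain ⟨β, hb⟩ : ∃ β : Bool, t * v * t⁻¹ * v⁻¹ = cond β z 1 := tv.elim (⟨false, ·⟩) (⟨true, ·⟩)
  refine ⟨α, β, fun i => List.getD [z, s 0, s 1, s 2, s 3, t, u, v] i 1, ?_, rfl⟩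
  have cj : ∀ {g σ}, Ex4 z s g σ → g * (z * (g⁻¹ * z)) = 1 ∧
      ∀ i : Fin 4, g * (s i.castSucc * (g⁻¹ * s (σ i).castSucc)) = 1 := fun e =>
    ⟨by rw [← mul_assoc, e.1, mul_assoc, mul_inv_cancel_left, c.zz], fun i => by
      rw [← mul_assoc, ← mul_assoc, e.2, c.sq]⟩
  have br : ∀ {g k : G}, g * k * g = k * g * k → g * (k * (g * (k⁻¹ * (g⁻¹ * k⁻¹)))) = 1 := fun e => by
    rw [← mul_assoc, ← mul_assoc, e]; group
  have sq : ∀ {g : G}, g * g = cond α z 1 → g * (g * cond α z 1) = 1 := fun e => by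
    rw [← mul_assoc, e]; cases α <;> simp [c.zz]
  have cm : t * (v * (t⁻¹ * (v⁻¹ * cond β z 1))) = 1 := by
    simp only [← mul_assoc, hb]; cases β <;> simp [c.zz]
  have ev1 : ∀ (x : ℕ → G) (γ : Bool), evW x (cond γ [0] []) = cond γ (x 0) 1 := fun x γ => by
    cases γ <;> simp [xl]
  simp only [Rels, RH, RE, RA, List.forall_mem_append, List.forall_mem_cons, evW_cons, evW_nil, ev1,
    xl, mul_one, List.not_mem_nil, false_imp_iff, implies_true, and_true, Nat.reduceMod,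
    Nat.reduceDiv, if_true, one_ne_zero, if_false, List.getD_cons_zero, List.getD_cons_succ]
  refine ⟨by simp only [c.sort, mul_one, and_self], ⟨(cj et).1, (cj eu).1, (cj ev).1, (cj et).2 0,
    (cj et).2 1, (cj et).2 2, (cj et).2 3, (cj eu).2 0, (cj eu).2 1, (cj eu).2 2, (cj eu).2 3,
    (cj ev).2 0, (cj ev).2 1, (cj ev).2 2, (cj ev).2 3, br b1, br b2⟩, sq ha, sq (uu.trans ha),
    sq (vv.trans (uu.trans ha)), cm⟩

end Hy

theorem eqns_Frame : True := by
  have := @Ex4.eq_1.{0}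
  trivial

end H40.E32
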