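import Cfsg.Agent.Lib.E32.W

/-! # Fusion of involutions when `C(z) = 2^{1+4}_- . S₄` (helper40) -/

set_option autoImplicit false
set_option maxRecDepth 100000

namespace H40.E32

open Subgroup H69 H70.TM

section gen
variable {E G : Type*} [Group E] [Group G] {φ : E →* G} {z : E}

/-- the group generated by three commuting involutions -/
def e8 (p q r : E) : List E := [1, p, q, p * q, r, p * r, q * r, p * q * r]

theorem mem_e8 (M : Mod φ z) {g : G} {p q r x p' q' r' x' : E} (hp : Act φ g p p') (hq : Act φ g q q')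
    (hr : Act φ g r r') (hx : Act φ g x x') (h : x' ∈ e8 p' q' r') : x ∈ e8 p q r := by
  simp only [e8, List.mem_cons, List.not_mem_nil, or_false] at h ⊢
  have k : ∀ {y y'}, Act φ g y y' → x' = y' → x = y := fun a e => M.act_eq' hx (e ▸ a)
  exact h.imp (k (Act.one φ g)) <| Or.imp (k hp) <| Or.imp (k hq) <| Or.imp (k (hp.mul hq)) <|
    Or.imp (k hr) <| Or.imp (k (hp.mul hr)) <| Or.imp (k (hq.mul hr)) (k ((hp.mul hq).mul hr))

/-- the model contains a Sylow subgroup of the centraliser of `u` -/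
def Ext (z : E) (S : Subgroup E) (u : E) (m : ℕ) : Prop :=
  (∀ x ∈ S, x * u = u * x → x ^ m = 1 ∨ x ^ m = z) ∧ (∃ x ∈ S, x * u = u * x ∧ x ^ m = z) ∧
    ∀ y, y * u = u * y → y ∈ S ∨ ∃ x ∈ S, x * u = u * x ∧ y * x * y⁻¹ ∉ S

theorem Ext.act [Finite G] (M : Mod φ z) {S : Subgroup E} (hS : ∀ x ∈ S, x ^ 2 ^ 3 = 1) {u : E} {m : ℕ}
    (h : Ext z S u m) {w x : E} (hc : Cj (φ w) (φ u)) (hx : x * w = w * x) (hk : x ^ 2 ^ 3 = 1) :
    ∃ g y, y * u = u * y ∧ Act φ g w u ∧ Act φ g x y := by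
  obtain ⟨h1, ⟨x0, a0, b0, c0⟩, h3⟩ := h
  have syl : IsSylowIn 2 ((S ⊓ 𝐂₀(u)).map φ) 𝐂₀(φ u) := by
    refine sylow_of_norm (isP_of_pow 3 ?_) ?_ fun g hg hn => ?_
    · rintro _ ⟨y, hy, rfl⟩
      rw [← map_pow, hS y hy.1, map_one]
    · rintro _ ⟨y, hy, rfl⟩
      exact mem_c.2 (M.comm_iff.2 (mem_c.1 hy.2))
    obtain ⟨x1, a1, e⟩ := conj_mem_of_mem_normalizer hn (mem_map_of_mem φ ⟨a0, mem_c.2 b0⟩)
    have e1 := (show Act φ g x0 x1 from e.symm).pow m
    rw [c0] at e1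
    rcases h1 x1 a1.1 (mem_c.1 a1.2) with c | c <;> rw [c] at e1
    · exact absurd (M.act_eq' e1 (Act.one φ g)) M.ne
    obtain ⟨y, rfl⟩ := M.ran g (cj_eq_iff'.1 e1)
    have hy := M.comm_iff.1 (mem_c.1 hg)
    rcases h3 y hy with c | ⟨x, a, b, c⟩
    · exact mem_map_of_mem φ ⟨c, mem_c.2 hy⟩
    · obtain ⟨x', a', e'⟩ := conj_mem_of_mem_normalizer hn (mem_map_of_mem φ ⟨a, mem_c.2 b⟩)
      exact absurd (M.act_eq (show Act φ (φ y) x x' from e'.symm) (Act.self φ y x) ▸ a'.1) c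
  obtain ⟨g, hg⟩ := hc
  obtain ⟨c, hc, y, hy, e⟩ := exists_cj_mem syl (u := g * φ x * g⁻¹)
    (mem_c.2 (hg ▸ cj_comm g (M.comm_iff.2 hx))) (k := 3)
    (by rw [conj_pow, ← map_pow, hk, map_one, mul_one, mul_inv_cancel])
  exact ⟨c * g, y, mem_c.1 hy.2, cj_trans hg (cj_eq_iff'.2 (mem_c.1 hc)), cj_trans rfl e.symm⟩

end gen

variable {α β : Bool}

/-- the central involution -/
def z : W α β := W.of 1
/-- the involution of `E` with two conjugates -/
def a : W α β := W.of 30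
/-- another involution of `E` -/
def b : W α β := W.of 2
/-- a transposition -/
def t : W α β := W.of 32
/-- a double transposition -/
def v : W α β := W.of 224
/-- a three-cycle -/
def d : W α β := W.of 96
/-- a Sylow subgroup -/
noncomputable def S (α β : Bool) : Subgroup (W α β) := W.pre α β 0xc300c3 (by decide +kernel)
/-- the largest normal `2`-subgroup -/
noncomputable def R (α β : Bool) : Subgroup (W α β) := W.pre α β 0x810081 (by decide +kernel)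

instance (u : W α β) : Decidable (u ∈ S α β) := inferInstanceAs (Decidable (u ∈ W.pre _ _ _ _))
instance (u : W α β) : Decidable (u ∈ R α β) := inferInstanceAs (Decidable (u ∈ W.pre _ _ _ _))

/-- the class of `v` -/
def inV (w : W α β) : Prop := w ∈ R α β ∧ 32 ≤ w.val ∧ w * w = 1

noncomputable instance (w : W α β) : Decidable (inV w) := inferInstanceAs (Decidable (_ ∧ _))

theorem f_mod : ∀ α β : Bool, (∀ u : W α β, u * z = z * u) ∧ (z : W α β) * z = 1 ∧ (z : W α β) ≠ 1 := by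
  decide +kernel

theorem f_ker : ∀ α β : Bool, ∀ u : W α β, u = 1 ∨ u = z ∨ ∃ k ∈ [2, 4, 8, 16],
    u * W.of k * u⁻¹ * (W.of k)⁻¹ = z ∨ ∃ l ∈ [2, 4, 8, 16], u * W.of k * u⁻¹ * (W.of k)⁻¹ * W.of l *
      (u * W.of k * u⁻¹ * (W.of k)⁻¹)⁻¹ * (W.of l)⁻¹ = z := by decide +kernel

theorem f_root : ∀ α β : Bool, ∀ w : W α β, w * w = 1 → ∃ x ∈ [14, 22, 26, 28, 6, 82, 170, 24, 94, 190, 12, 20, 32, 38, 56, 62, 64, 76, 160, 180],
    W.of x * w = w * W.of x ∧ W.of x * W.of x = (z : W α β) := by decide +kernel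

theorem f_sq : ∀ α β : Bool, ∀ y : W α β, y * y * (y * y) = 1 →
    y * y = 1 ∨ y * y = z ∨ (y * y = a ∨ y * y = a * z) ∨ β = false ∧ inV (y * y) := by decide +kernel

theorem f_V : ∀ α : Bool, (∀ w : W α false, inV w → Cj v w) ∧
    ∀ y : W α false, y * v = v * y → y * y * y = 1 → y = 1 := by decide +kernel

theorem f_V' : (a * v = v * (a : W true false) ∧
    ∃ x : W true false, x * v = v * x ∧ x * a = a * x ∧ x * x = 1 ∧ x ∉ e8 z v a) ∧
    ∀ y : W true false, y * v = v * y → y * y = 1 →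
    (y = 1 ∨ y = z ∨ inV y) ∨ (v * y = 1 ∨ v * y = z ∨ inV (v * y)) ∨
      ∀ x, x * v = v * x → x * y = y * x → x * x = 1 → x ∈ e8 v z y :=
  ⟨by decide +kernel, by decide +kernel⟩

theorem f_A : ∀ α β : Bool, ∀ w : W α β, w = a ∨ w = a * z → (w ≠ 1 ∧ w ≠ z ∧ w * w = 1 ∧ d * w = w * d) ∧
    ∀ x, x * x = w → ∀ y, y * y = w → x * y * (x * y) = 1 ∨ x * y * (x * y) = w := by decide +kernel

theorem f_d : ∀ α β : Bool, d * d * d = (1 : W α β) ∧ d ≠ (1 : W α β) := by decide +kernel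

theorem f_B : ∀ α β : Bool, α = true ∨ β = true → ∀ w : W α β, w = a ∨ w = a * z →
    ∃ x, (x * w = w * x ∧ x * x = z) ∧ ∃ y, (y * w = w * y ∧ y * y = z) ∧
      x * y * (x * y) ≠ 1 ∧ x * y * (x * y) ≠ z := by decide +kernel

variable {G : Type*} [Group G]

theorem mem_of_normal {φ : W α β →* G} {D : Subgroup G} [hD : D.Normal] {u : W α β} (h1 : u ≠ 1)
    (hu : φ u ∈ D) : φ z ∈ D := by
  have k : ∀ u k, φ u ∈ D → φ (u * k * u⁻¹ * k⁻¹) ∈ D := fun u k h => by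
    simpa only [map_mul, map_inv, mul_assoc] using mul_mem h (hD.conj_mem _ (inv_mem h) (φ k))
  rcases f_ker α β u with e | e | ⟨x, -, e | ⟨y, -, e⟩⟩
  exacts [absurd e h1, e ▸ hu, e ▸ k _ _ hu, e ▸ k _ _ (k _ _ hu)]

theorem mod_of' [Finite G] {φ : W α β →* G} (h1 : φ z ≠ 1) (hc : Nat.card 𝐂₀(φ z) = 768) : Mod φ z :=
  mod_of ((injective_iff_map_eq_one φ).2 fun _ hu => by_contra fun e =>
    h1 (mem_of_normal (D := ⊥) e hu)) (f_mod α β) (hc.trans W.card.symm).le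

section bad
variable {φ : W α β →* G} (M : Mod φ z)
include M

theorem cases_z {g : G} {w : W α β} (h : Act φ g z w) :
    w = z ∨ (w = a ∨ w = a * z) ∨ β = false ∧ inV w := by
  obtain ⟨u, hu⟩ := M.swap h
  obtain ⟨x, -, x1, x2⟩ := f_root α β u (M.act_eq' (hu.mul hu) (M.sq ▸ Act.one φ g))
  obtain ⟨y, hy⟩ := M.act hu x1
  obtain rfl : y * y = w := M.act_eq (hy.mul hy) (x2 ▸ h)
  exact (f_sq α β y (M.act_eq (h.mul h) (M.sq ▸ Act.one φ g))).resolve_left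
    fun e => M.ne (M.act_eq' h (e ▸ Act.one φ g))

theorem not_a (hb : α = true ∨ β = true) {g : G} {w : W α β} (h : Act φ g z w)
    (hw : w = a ∨ w = a * z) : False := by
  obtain ⟨⟨-, w1, -, w2⟩, w5⟩ := f_A α β w hw
  obtain ⟨u, hu⟩ := M.swap h
  rcases cases_z M hu.symm with e | e | ⟨rfl, e⟩
  · exact w1 (M.act_eq h (e ▸ hu))
  · obtain ⟨x, ⟨x1, x2⟩, y, ⟨y1, y2⟩, c1, c2⟩ := f_B α β hb u e
    obtain ⟨x', hx⟩ := M.act hu x1
    obtain ⟨y', hy⟩ := M.act hu y1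
    have k := (hx.mul hy).mul (hx.mul hy)
    rcases w5 x' (M.act_eq (hx.mul hx) (x2 ▸ h)) y' (M.act_eq (hy.mul hy) (y2 ▸ h)) with c | c
    exacts [c1 (M.act_eq' k (c ▸ Act.one φ g)), c2 (M.act_eq' k (c ▸ h))]
  · obtain ⟨m, hm⟩ := ((f_V α).1 u e).symm
    obtain ⟨y, y1, y2⟩ := M.act2 (hu.symm.trans (Act.of_cj φ hm))
      (h.symm.trans (Act.of_cj φ (cj_eq_iff'.2 (M.cen m)))) w2
    have k := (y2.mul y2).mul y2
    rw [(f_d _ _).1] at k
    rw [(f_V α).2 y y1 (M.act_eq k (Act.one φ _))] at y2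
    exact (f_d _ _).2 (M.act_eq' y2 (Act.one φ _))

theorem isolated (hb : α = true ∨ β = true) (g : G) (h : Commute (g * φ z * g⁻¹) (φ z)) :
    g * φ z * g⁻¹ = φ z := by
  obtain ⟨w, hw⟩ := M.ran _ h
  replace hw : Act φ g z w := hw.symm
  rcases cases_z M hw with e | e | ⟨rfl, e⟩
  · exact e ▸ hw
  · exact (not_a M hb hw e).elim
  obtain rfl : α = true := by simpa using hb
  obtain ⟨u, hu⟩ := M.swap hw
  rcases cases_z M hu.symm with e' | e' | ⟨-, e'⟩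
  · exact e' ▸ hu
  · exact (not_a M hb hu.symm e').elim
  obtain ⟨m, hm⟩ := ((f_V true).1 w e).symm
  obtain ⟨n, hn⟩ := (f_V true).1 u e'
  replace hw := ((Act.of_cj φ (cj_eq_iff'.2 (M.cen n))).trans hw).trans (Act.of_cj φ hm)
  replace hu := ((Act.of_cj φ hn).trans hu).trans (Act.of_cj φ (cj_eq_iff'.2 (M.cen m)))
  exfalso
  generalize φ m * (g * φ n) = g at hw hu
  obtain ⟨⟨a1, x, x1, x2, x3, x4⟩, h5⟩ := f_V'
  obtain ⟨y, y1, y2⟩ := M.act2 hw hu a1
  obtain ⟨x', x5, x6⟩ := M.act2 hw hu x1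
  have k : ∀ {p q}, Act φ g p q → p = a ∨ p = a * z → ¬ (q = 1 ∨ q = z ∨ inV q) := by
    rintro p q h hp (rfl | rfl | c)
    · exact (f_A _ _ p hp).1.1 (M.act_eq' h (Act.one φ g))
    · exact not_a M hb h.symm hp
    · obtain ⟨m, hm⟩ := (hw.cj.trans (((f_V true).1 q c).map φ)).trans h.cj.symm
      exact not_a M hb hm hp
  rcases h5 y y1 (M.act_eq (y2.mul y2) ((f_A _ _ a (Or.inl rfl)).1.2.2.1 ▸ Act.one φ g)) with c | c | c
  · exact k y2 (Or.inl rfl) c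
  · exact k (hw.mul y2) (Or.inr (M.cen a).symm) c
  · exact x4 (mem_e8 M hw hu y2 x6 (c x' x5 (M.act_comm x6 y2 x2)
      (M.act_eq (x6.mul x6) (x3 ▸ Act.one φ g))))

end bad

/-- the good model -/
abbrev W0 : Type := W false false
/-- the centraliser of `a` in `S` -/
noncomputable def CA : Subgroup W0 := W.sub
  0xc33c3cc33cc3c33c000000000000000000000000000000003cc3c33cc33c3cc30000000000000000000000000000000000000000000000000000000000000000c33c3cc33cc3c33c000000000000000000000000000000003cc3c33cc33c3cc3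
  (by decide +kernel)
/-- the Sylow subgroup of `L₃(4)` -/
noncomputable def U : Subgroup W0 := W.sub
  0xc33c3cc3000000000000000000000000000000000000000000000000c33c3cc30000000000000000000000000000000000000000000000000000000000000000c33c3cc3000000000000000000000000000000000000000000000000c33c3cc3
  (by decide +kernel)
/-- the first elementary abelian subgroup of order 16 -/
noncomputable def V1 : Subgroup W0 := W.sub
  0xc0000003000000000000000000000000000000000000000000000000c00000030000000000000000000000000000000000000000000000000000000000000000c0000003000000000000000000000000000000000000000000000000c0000003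
  (by decide +kernel)
/-- the second elementary abelian subgroup of order 16 -/
noncomputable def V2 : Subgroup W0 := W.sub
  0xc300000000000000000000000000000000000000000000000000000300c000000000000000000000000000000000000000000000000000000000000000000030000c0000000000000000000000000000000000000000000000000c0000003
  (by decide +kernel)

instance (u : W0) : Decidable (u ∈ CA) := inferInstanceAs (Decidable (u ∈ W.sub _ _))
instance (u : W0) : Decidable (u ∈ U) := inferInstanceAs (Decidable (u ∈ W.sub _ _))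
instance (u : W0) : Decidable (u ∈ V1) := inferInstanceAs (Decidable (u ∈ W.sub _ _))
instance (u : W0) : Decidable (u ∈ V2) := inferInstanceAs (Decidable (u ∈ W.sub _ _))
noncomputable instance (u : W0) (m : ℕ) : Decidable (Ext z (S false false) u m) :=
  inferInstanceAs (Decidable (_ ∧ _))

theorem g_syl : Syl (z : W0) (S _ _) := by
  have h1 : ∀ u : W0, u = 1 ∨ u = z ∨ ∃ k ∈ [2, 4, 8, 16], W.of k ∈ S false false ∧
    W.of k * u ≠ u * W.of k := by decide +kernel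
  have h2 : t ∈ S false false ∧ ∀ u : W0, u ∈ S _ _ ∨ u * t * u⁻¹ ∉ S _ _ := by decide +kernel
  exact ⟨by decide +kernel, fun u _ h => (h1 u).imp_right fun c => c.resolve_right
    fun ⟨_, _, a, b⟩ => b (h _ a), by decide +kernel, fun u h => (h2.2 u).resolve_right fun c => c (h _ h2.1)⟩

theorem g_ext : Ext (z : W0) (S _ _) b 4 ∧ Ext (z : W0) (S _ _) t 4 ∧ Ext (z : W0) (S _ _) (b * t) 2 := by
  decide +kernel

theorem g_le2 : (∀ u ∈ S _ _, u ∈ CA ∨ u * b ∈ CA ∧ b⁻¹ * u ∈ CA) ∧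
    ∀ u ∈ S false false, u ∈ R _ _ ∨ u * t ∈ R _ _ ∧ t⁻¹ * u ∈ R _ _ := by decide +kernel

theorem g_cls : ∀ w : W0, w * w = 1 → (w ∈ U → ∃ x, x * x = w ∧ x ^ 2 ^ 3 = 1) ∧
    (w ∈ CA → w ∈ U ∨ Cj (b * t) w) ∧ (w ∈ R _ _ → w ∈ U ∨ Cj b w) := by decide +kernel

theorem g_out : (∀ u ∈ [(b : W0), t, b * t], u ∈ S _ _ ∧ u * u = 1 ∧ ∀ y, y * y ≠ u) ∧
    (∀ u ∈ [(b : W0), t], ∃ x, x * u = u * x ∧ x ^ 2 ^ 3 = 1 ∧ x ^ 4 ≠ 1) ∧
    (∀ y : W0, y * (b * t) = b * t * y → y ^ 4 = 1) ∧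
    (∀ u ∈ S _ _, u ∈ U ∨ u * b ∈ U ∨ u * t ∈ U ∨ u * (b * t) ∈ U) ∧ ∀ u ∈ U, u ∈ S _ _ := by
  decide +kernel

/-- a product of two elements of order 3 -/
def Cov (u : W0) : Prop := ∃ x ∈ [96, 108, 117, 120, 128, 141, 148, 153, 256, 262, 267, 268, 352, 358, 371, 372, 384, 391, 394, 397, 480, 490, 499, 504, 608, 615, 626, 629, 640, 651, 658, 665],
  W.of x * W.of x * W.of x = (1 : W0) ∧ W.of x * u * (W.of x * u) * (W.of x * u) = 1

noncomputable instance (u : W0) : Decidable (Cov u) := inferInstanceAs (Decidable (∃ x ∈ _, _))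

theorem g_cov : Cov v ∧ ∀ u ∈ U, Cov u ∨ Cov (v * u) := by decide +kernel

theorem g_V : (∀ u ∈ V1, u ∈ U ∧ u * u = 1 ∧ b * u * b⁻¹ ∈ V2 ∧ (u ∈ V2 → u ∈ [1, z, a, a * z])) ∧
    (∀ u ∈ V2, u ∈ U ∧ u * u = 1 ∧ b * u * b⁻¹ ∈ V1) ∧
    (∀ u ∈ U, (u * u = 1 → u ∈ V1 ∨ u ∈ V2) ∧ ∃ x ∈ V1, x⁻¹ * u ∈ V2) ∧
    (∃ u ∈ V1, u ∉ V2) ∧ (∃ u ∈ V2, u ∉ V1) ∧ z ∈ V1 ∧ z ∈ V2 := by decide +kernel

theorem card_V1 : Nat.card V1 = 16 := (W.card_subtype (· ∈ V1)).trans (by decide +kernel)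
theorem card_V2 : Nat.card V2 = 16 := (W.card_subtype (· ∈ V2)).trans (by decide +kernel)
theorem card_U : Nat.card U = 64 := (W.card_subtype (· ∈ U)).trans (by decide +kernel)
theorem card_V : Nat.card (V1 ⊓ V2 : Subgroup W0) = 4 :=
  (W.card_subtype fun u => u ∈ V1 ∧ u ∈ V2).trans (by decide +kernel)

theorem sup_V : V1 ⊔ V2 = U := le_antisymm (sup_le (fun u h => (g_V.1 u h).1) fun u h => (g_V.2.1 u h).1)
  fun u h => by
    obtain ⟨x, h1, h2⟩ := (g_V.2.2.1 u h).2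
    simpa using mul_mem (mem_sup_left h1) (mem_sup_right h2)

section good
variable [Finite G] {φ : W0 →* G} (M : Mod φ z)
include M

theorem not_res {u : W0} (hu : u ∈ [b, t, b * t]) : φ u ∉ 𝐑(2, (⊤ : Subgroup G)) := fun h => by
  obtain ⟨u1, u2, u3⟩ := g_out.1 u hu
  have k0 : ∀ {A : Subgroup W0} {k : W0}, (∀ u ∈ S _ _, u ∈ A ∨ u * k ∈ A ∧ k⁻¹ * u ∈ A) →
      ∃ w ∈ A, w * w = 1 ∧ Cj (φ w) (φ u) := fun hA => by
    obtain ⟨g, -, ⟨w, hw, e⟩, -⟩ := thompson (M.syl g_syl).1 (le2_map fun x hx y hy =>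
      (hA x hx).imp_right fun c => (hA y hy).imp_right fun c' => by
        simpa [mul_assoc] using mul_mem c.1 c'.2) (mem_map_of_mem φ u1)
      (by rw [← map_mul, u2, map_one]) h
    have e' : Act φ g u w := e.symm
    exact ⟨w, hw, M.act_eq (e'.mul e') (u2 ▸ Act.one φ g), e'.cj.symm⟩
  have k1 : ∀ w ∈ U, w * w = 1 → ¬ Cj (φ w) (φ u) := fun w hw w2 c => by
    obtain ⟨m, hm⟩ : ∃ m, Ext z (S _ _) u m := by
      simp only [List.mem_cons, List.not_mem_nil, or_false] at hu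
      rcases hu with rfl | rfl | rfl
      exacts [⟨_, g_ext.1⟩, ⟨_, g_ext.2.1⟩, ⟨_, g_ext.2.2⟩]
    obtain ⟨x, x1, x2⟩ := (g_cls w w2).1 hw
    obtain ⟨g, y, -, h1, h2⟩ := hm.act M g_syl.isP c (x := x) (by rw [← x1, mul_assoc]) x2
    exact u3 y (M.act_eq (h2.mul h2) (x1 ▸ h1))
  have k2 : ∀ w ∈ [(b : W0), t], ¬ Cj (φ w) (φ (b * t)) := fun w hw c => by
    obtain ⟨x, x1, x2, x3⟩ := g_out.2.1 w hw
    obtain ⟨g, y, y1, -, h2⟩ := g_ext.2.2.act M g_syl.isP c x1 x2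
    exact x3 (M.act_eq' (h2.pow 4) (g_out.2.2.1 y y1 ▸ Act.one φ g))
  rcases (show u ∈ [b, t] ∨ u = b * t by simpa [or_assoc] using hu) with e | rfl
  · obtain ⟨w, hw, w2, c⟩ := k0 g_le2.1
    exact ((g_cls w w2).2.1 hw).elim (k1 w · w2 c) fun c' => k2 u e ((c'.map φ).trans c).symm
  · obtain ⟨w, hw, w2, c⟩ := k0 g_le2.2
    exact ((g_cls w w2).2.2 hw).elim (k1 w · w2 c) fun c' => k2 b (by simp) ((c'.map φ).trans c)

omit M [Finite G] in
theorem U_le : U.map φ ≤ 𝐑(2, (⊤ : Subgroup G)) := by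
  have m : ∀ y : W0, y * y * y = 1 → φ y ∈ 𝐑(2, (⊤ : Subgroup G)) := fun y h =>
    mem_res3 (mem_top _) (by rw [← map_mul, ← map_mul, h, map_one])
  have k : ∀ u, Cov u → φ u ∈ 𝐑(2, (⊤ : Subgroup G)) := fun u ⟨x, _, h1, h2⟩ =>
    (Subgroup.mul_mem_cancel_left _ (m _ h1)).1 (map_mul φ _ u ▸ m _ h2)
  rintro _ ⟨u, hu, rfl⟩
  exact (g_cov.2 u hu).elim (k u) fun h =>
    (Subgroup.mul_mem_cancel_left _ (k _ g_cov.1)).1 (map_mul φ v u ▸ k _ h)

theorem syl_U : IsSylowIn 2 (U.map φ) 𝐑(2, (⊤ : Subgroup G)) := by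
  have := (M.syl g_syl).1.inf_normal le_top (le_normalizer_res (p := 2) ⊤)
  rwa [le_antisymm (fun g hg => ?_) (le_inf (map_mono g_out.2.2.2.2) U_le)] at this
  obtain ⟨⟨u, hu, rfl⟩, h⟩ := hg
  have k : ∀ k ∈ [(b : W0), t, b * t], u * k ∉ U := fun k hk e => not_res M hk
    ((Subgroup.mul_mem_cancel_left _ h).1 (map_mul φ u k ▸ U_le (mem_map_of_mem φ e)))
  exact mem_map_of_mem φ ((g_out.2.2.2.1 u hu).resolve_right
    (not_or.2 ⟨k _ (by simp), not_or.2 ⟨k _ (by simp), k _ (by simp)⟩⟩))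

end good

theorem eqns_Fus : True := by
  have := @e8.eq_1.{0}
  have := @Ext.eq_1.{0}
  have := @z.eq_1
  have := @a.eq_1
  have := @b.eq_1
  have := @t.eq_1
  have := @v.eq_1
  have := @d.eq_1
  have := @S.eq_1
  have := @R.eq_1
  have := @inV.eq_1
  have := @W0.eq_1
  have := @CA.eq_1
  have := @U.eq_1
  have := @V1.eq_1
  have := @V2.eq_1
  have := @Cov.eq_1
  trivial

end H40.E32
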