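import Cfsg.Agent.S3198
import Cfsg.Agent.S0205
import Cfsg.Agent.Lib.Char.BurnsidePQ
import Cfsg.Agent.Lib.Inv73.ZStar
import Cfsg.Agent.Lib.E32.Frame
import Cfsg.Agent.Lib.E32.Fus
import Cfsg.Agent.Lib.E32.Aut

/-! # Groups with an involution centraliser `2^{1+4}_- . S₄` (helper40) -/

set_option autoImplicit false
set_option maxRecDepth 100000

namespace H40.E32

open Subgroup H69 H70.TM H45 Gold H55.Two Cfsg
open scoped MatrixGroups

universe u

variable {G : Type u} [Group G] [Finite G] {F : Type*} [Field F] [Fintype F]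

theorem l34 (hF : Fintype.card F = 4) (hO : pPrimeCore 2 G = ⊥) {A B : Subgroup G} (h : L34 A B) :
    A.Normal ∨ B.Normal ∨ Nonempty (Res2 G ≃* PSL(3, F)) := by
  rcases h.cases h.syl with c | c | c | c
  · exact Or.inl (h.normal hO c)
  · exact Or.inr (Or.inl (h.symm.normal hO c))
  swap
  · have := h.idx
    rw [c.1, h.cZ, h.cB] at this
    omega
  have hX := le_Res2 h.pS
  have t := c.res hX
  have c4 : Nat.card (A.subgroupOf (Res2 G) ⊓ B.subgroupOf (Res2 G) : Subgroup _) = 4 := by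
    rw [← h.cZ, ← H69.card_subgroupOf ((inf_le_left.trans le_sup_left).trans hX)]
    rfl
  have hO' : pPrimeCore 2 (Res2 G) = ⊥ := by
    have : Od (Res2 G) = ⊥ :=
      eq_bot_iff.2 (hO ▸ Od_top (G := G) ▸ Od_le_Od le_top le_normalizer_of_normal)
    exact (map_eq_bot_iff_of_injective _ (subtype_injective _)).1 this
  obtain ⟨K, L, -, h2, h3, h4, -, h5, F', _, _, h6, h7⟩ := t.main hO' fun N hN c' =>
    Res2_top h.syl (f := MonoidHom.id _) Function.surjective_id N hN (by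
      rwa [Subgroup.map_id, subgroupOf_sup (le_sup_left.trans hX) (le_sup_right.trans hX)])
  rw [Cfsg.Agent.S3198.Dc_eq t c4, bot_inf_eq] at h3 h5
  have hK : K = ⊥ := eq_bot_iff.2 (hO' ▸ H1.le_pPrimeCore_of_not_dvd (by
    simpa using h3.not_dvd_relIndex))
  obtain rfl : L = ⊤ := by simpa [hK] using h2
  have hZ' : center (⊤ : Subgroup (Res2 G)) = ⊥ := eq_bot_iff.2 fun z hz =>
    Subtype.ext (h5 ⟨mem_top _, fun y _ => congrArg Subtype.val (mem_center_iff.1 hz ⟨y, mem_top y⟩)⟩)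
  let e := ((QuotientGroup.quotientMulEquivOfEq hZ').trans QuotientGroup.quotientBot).trans topEquiv
  have cB : Nat.card (B.subgroupOf (Res2 G)) = 16 := by
    rw [H69.card_subgroupOf (le_sup_right.trans hX), h.cB]
  rw [c4, cB] at h6
  have : IsSimpleGroup (Res2 G) := by
    rcases h7 with ⟨⟨f⟩⟩ | ⟨⟨f⟩⟩
    · have := H10.isSimpleGroup_PSL_fin (F := F') 3 (by omega) (by omega)
      exact (e.symm.trans f).isSimpleGroup
    · have := Cfsg.Agent.S0270.result (F := F') 2 le_rfl (by omega)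
      exact (e.symm.trans f).isSimpleGroup
  obtain ⟨K', _, _, k1, ⟨f⟩⟩ :=
    N3.psl ⟨t.nice, fun t' => Cfsg.Agent.S3198.Dc_eq t' ((t.card_pair t').2.trans c4)⟩ t
  rw [c4, cB] at k1
  exact Or.inr (Or.inr ⟨f.trans (H10.pslCongr (FiniteField.ringEquivOfCardEq (by omega)))⟩)

theorem solv_iso {y : G} (hy : orderOf y = 2) (hc : Nat.card 𝐂₀(y) = 768)
    (hiso : ∀ g : G, Commute (g * y * g⁻¹) y → g * y * g⁻¹ = y) : Group.IsSolvable G := by
  have h := congrArg (Subgroup.map (QuotientGroup.mk' (oddCore G)))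
    (H73.centralizer_sup_oddCore_eq_top' hy hiso)
  rw [Subgroup.map_sup, QuotientGroup.map_mk'_self, sup_bot_eq,
    map_top_of_surjective _ (QuotientGroup.mk'_surjective _)] at h
  have h1 := card_map_dvd 𝐂₀(y) (QuotientGroup.mk' (oddCore G))
  rw [h, hc, card_top] at h1
  have := H8.isSolvable_of_card_dvd (a := 8) (b := 1) Nat.prime_two Nat.prime_three h1
  have := Cfsg.Agent.S0205.result (H1.odd_card_oddCore (G := G))
  exact Group.isSolvable_of_ker_le_range (oddCore G).subtype (QuotientGroup.mk' (oddCore G)) (by simp)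

theorem solv_four {y : G} (hc : Nat.card 𝐂₀(y) = 768) {D : Subgroup G} [D.Normal] (hy : y ∈ D)
    (hD : Nat.card D = 4) : Group.IsSolvable G := by
  let f : G →* Equiv.Perm D := (MulAut.toPerm D).comp MulAut.conjNormal
  have h1 : f.ker ≤ 𝐂₀(y) := fun g hg => by
    have := congrArg Subtype.val (DFunLike.congr_fun (MonoidHom.mem_ker.1 hg) ⟨y, hy⟩)
    exact mem_c.2 (cj_eq_iff'.1 this)
  have h2 := card_dvd_of_le h1
  have h3 := card_subgroup_dvd_card f.range
  rw [Nat.card_perm, hD, ← index_ker] at h3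
  have h4 := Nat.mul_dvd_mul h2 h3
  rw [card_mul_index, hc] at h4
  exact H8.isSolvable_of_card_dvd (a := 11) (b := 2) Nat.prime_two Nat.prime_three h4

theorem g_D : (∀ x ∈ V1, x ∈ V2 → ∀ u : W0, u * x * u⁻¹ ∈ V1 ∧ u * x * u⁻¹ ∈ V2) ∧ z ∈ U ∧
    (b : W0)⁻¹ = b := by decide +kernel

omit [Finite G] in
theorem norm_swap {φ : W0 →* G} {K : Subgroup G} [hK : K.Normal] {V V' : Subgroup W0}
    (h1 : ∀ u ∈ V, b * u * b⁻¹ ∈ V') (h2 : ∀ u ∈ V', b * u * b⁻¹ ∈ V) (hV : V.map φ ≤ K)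
    (hn : ((V.map φ).subgroupOf K).Normal) {k : G} (hk : k ∈ K) {x : W0} (hx : x ∈ V) (hx' : x ∈ V') :
    k * φ x * k⁻¹ ∈ V.map φ ∧ k * φ x * k⁻¹ ∈ V'.map φ := by
  have e : ∀ k ∈ K, ∀ x ∈ V, k * φ x * k⁻¹ ∈ V.map φ := fun k hk x hx =>
    hn.conj_mem ⟨_, hV (mem_map_of_mem φ hx)⟩ (mem_map_of_mem φ hx) ⟨k, hk⟩
  obtain ⟨y, hy, e'⟩ := e _ (hK.conj_mem k hk (φ b)) _ (h2 x hx')
  refine ⟨e k hk x hx, _, h1 y hy, ?_⟩
  nth_rewrite 1 [← g_D.2.2]
  nth_rewrite 2 [g_D.2.2]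
  rw [map_mul, map_mul, e']
  simp [mul_assoc]

theorem good (hF : Fintype.card F = 4) {φ : W0 →* G} (M : Mod φ z) (hc : Nat.card 𝐂₀(φ z) = 768)
    (hO : pPrimeCore 2 G = ⊥) (hs : ¬ Group.IsSolvable G) : Nonempty (G ≃* MulAut PSL(3, F)) := by
  have sS := (M.syl g_syl).1
  have sU := syl_U M
  have hK : 𝐑(2, (⊤ : Subgroup G)).Normal :=
    normal_iff_top_le_normalizer.2 (le_normalizer_res (p := 2) ⊤)
  have hKS := sS.res_sup
  generalize 𝐑(2, (⊤ : Subgroup G)) = K at sU hK hKS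
  obtain ⟨g1, g2, g3, ⟨u1, g4, g5⟩, ⟨u2, g6, g7⟩, g8, g9⟩ := g_V
  have l1 : V1.map φ ≤ U.map φ := map_mono fun u h => (g1 u h).1
  have l2 : V2.map φ ≤ U.map φ := map_mono fun u h => (g2 u h).1
  have sup : (V1.map φ).subgroupOf K ⊔ (V2.map φ).subgroupOf K = (U.map φ).subgroupOf K := by
    rw [← subgroupOf_sup (l1.trans sU.le) (l2.trans sU.le), ← Subgroup.map_sup, sup_V]
  have cm : ∀ V : Subgroup W0, V.map φ ≤ U.map φ → Nat.card ((V.map φ).subgroupOf K) = Nat.card V :=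
    fun V h => by rw [H69.card_subgroupOf (h.trans sU.le), card_map_of_injective M.inj]
  have ne : ∀ {V V' : Subgroup W0} {u}, V.map φ ≤ U.map φ → u ∈ V → u ∉ V' →
      ¬ (V.map φ).subgroupOf K ≤ (V'.map φ).subgroupOf K := fun l h h' c =>
    h' ((mem_map_iff_mem M.inj).1 (c (x := ⟨_, sU.le (l (mem_map_of_mem φ h))⟩) (mem_map_of_mem φ h)))
  have h : L34 ((V1.map φ).subgroupOf K) ((V2.map φ).subgroupOf K) := by
    refine ⟨TE.of_inv (S := (U.map φ).subgroupOf K) (subgroupOf_mono K l1) (subgroupOf_mono K l2)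
      ?_ ?_ ?_ (ne l1 g4 g5) (ne l2 g6 g7), sup ▸ sU.subgroupOf_top, (cm _ l1).trans card_V1,
      (cm _ l2).trans card_V2, ?_⟩
    · rintro ⟨_, _⟩ ⟨u, hu, rfl⟩
      exact Subtype.ext (by simpa using congrArg φ (g1 u hu).2.1)
    · rintro ⟨_, _⟩ ⟨u, hu, rfl⟩
      exact Subtype.ext (by simpa using congrArg φ (g2 u hu).2.1)
    · rintro ⟨_, _⟩ ⟨u, hu, rfl⟩ e
      exact ((g3 u hu).1 (M.inj (by simpa using congrArg Subtype.val e))).imp
        (mem_map_of_mem φ) (mem_map_of_mem φ)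
    · rw [← card_V, ← cm _ ((map_mono inf_le_left).trans l1), map_inf _ _ _ M.inj]
      rfl
  have hO' : pPrimeCore 2 K = ⊥ := by
    have : Od K = ⊥ :=
      eq_bot_iff.2 (hO ▸ Od_top (G := G) ▸ Od_le_Od le_top le_normalizer_of_normal)
    exact (map_eq_bot_iff_of_injective _ (subtype_injective _)).1 this
  have nD : (∀ k ∈ K, ∀ x ∈ V1, x ∈ V2 → k * φ x * k⁻¹ ∈ V1.map φ ∧ k * φ x * k⁻¹ ∈ V2.map φ) →
      False := fun c => by
    have : ((V1 ⊓ V2).map φ).Normal := normal_iff_top_le_normalizer.2 (hKS ▸ sup_le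
      (le_normalizer_of_cj_le fun k hk y hy => by
        obtain ⟨_, ⟨x, hx, rfl⟩, rfl⟩ := mem_cj'.1 hy
        rw [map_inf _ _ _ M.inj]
        exact c k hk x hx.1 hx.2)
      (le_normalizer_of_cj_le fun k hk y hy => by
        obtain ⟨_, ⟨x, hx, rfl⟩, rfl⟩ := mem_cj'.1 hy
        obtain ⟨u, -, rfl⟩ := hk
        exact ⟨_, g_D.1 x hx.1 hx.2 u, by simp⟩))
    exact hs (solv_four hc (mem_map_of_mem φ (K := V1 ⊓ V2) ⟨g8, g9⟩)
      ((card_map_of_injective M.inj).trans card_V))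
  rcases l34 hF hO' h with c | c | ⟨⟨f⟩⟩
  · exact (nD fun k hk x h1 h2 => norm_swap (fun u hu => (g1 u hu).2.2.1) (fun u hu => (g2 u hu).2.2)
      (l1.trans sU.le) c hk h1 h2).elim
  · exact (nD fun k hk x h1 h2 => (norm_swap (fun u hu => (g2 u hu).2.2) (fun u hu => (g1 u hu).2.2.1)
      (l2.trans sU.le) c hk h2 h1).symm).elim
  have : (Res2 K).Characteristic := characteristic_iff_le_comap.2 fun σ =>
    (closure_le _).2 fun g ⟨k, hk⟩ => subset_closure ⟨k, (σ.orderOf_eq g).trans hk⟩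
  have hUX : U.map φ ≤ (Res2 K).map K.subtype := fun g hg =>
    ⟨⟨g, sU.le hg⟩, le_Res2 sU.subgroupOf_top.isP hg, rfl⟩
  have hXK : (Res2 K).map K.subtype ≤ K := map_subtype_le _
  have hX : ((Res2 K).map K.subtype).Normal := inferInstance
  have e := (equivMapOfInjective _ _ K.subtype_injective).symm.trans f
  generalize (Res2 K).map K.subtype = X at hUX hXK hX e
  have zX : φ z ∈ X := hUX (mem_map_of_mem φ g_D.2.1)
  have z1 : e ⟨_, zX⟩ ≠ 1 := fun c =>
    M.ne (M.inj ((congrArg Subtype.val (e.map_eq_one_iff.1 c)).trans φ.map_one.symm))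
  let ψ : G →* MulAut PSL(3, F) := (MulAut.congr e).toMonoidHom.comp MulAut.conjNormal
  refine H10.nonempty_mulEquiv_of_injective ψ ((MulAut.congr e).injective.comp
    ((MonoidHom.ker_eq_bot_iff _).1 (eq_bot_iff.2 (hO ▸ H1.le_pPrimeCore_of_not_dvd fun hd => ?_)))) ?_
  · obtain ⟨⟨s, hs⟩, h2⟩ := exists_prime_orderOf_dvd_card' 2 hd
    rw [← orderOf_coe] at h2
    obtain ⟨g, -, u, -, hu⟩ := exists_cj_mem2 sS (mem_top s) (H9.mul_self_of_orderOf_two h2)
    have h3 := mem_of_normal (φ := φ) (u := u) (fun c => H9.ne_one_of_orderOf_two h2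
      (conj_eq_one_iff.1 (by rw [← hu, c, map_one]))) (hu ▸ Normal.conj_mem inferInstance s hs g)
    have : e ⟨_, zX⟩ ∈ center PSL(3, F) := mem_center_iff.2 fun y => by
      obtain ⟨y, rfl⟩ := e.surjective y
      rw [← map_mul, ← map_mul]
      have := congrArg Subtype.val (DFunLike.congr_fun (MonoidHom.mem_ker.1 h3) y)
      exact congrArg e (Subtype.ext (cj_eq_iff'.1 this).symm)
    rw [center_psl, mem_bot] at this
    exact z1 this
  have oz : orderOf (e ⟨_, zX⟩) = 2 := orderOf_eq_prime (by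
    rw [pow_two, ← map_mul, e.map_eq_one_iff]
    exact Subtype.ext (by simpa using congrArg φ M.sq)) z1
  have hT : 𝐂₀(φ z) ⊓ X = U.map φ := sU.max _
    (le_inf (by rintro _ ⟨u, -, rfl⟩; exact mem_c.2 (M.comm_iff.2 (M.cen u))) hUX)
    (inf_le_right.trans hXK) (isP_of_pow 2 fun y hy => by
      have := pow4 hF oz (y := e ⟨y, hy.2⟩) (by
        rw [← map_mul, ← map_mul]
        exact congrArg e (Subtype.ext (mem_c.1 hy.1)))
      rw [← map_pow, e.map_eq_one_iff] at this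
      exact congrArg Subtype.val this)
  have h1 := H1.card_sup_mul_card_inf_of_normal 𝐂₀(φ z) X
  rw [hT, card_map_of_injective M.inj, card_U, hc, Nat.card_congr e.toEquiv, card_psl hF] at h1
  have h2 := card_le_card_group (𝐂₀(φ z) ⊔ X)
  rw [card_aut hF]
  omega

theorem main (hF : Fintype.card F = 4) {Q : Subgroup G} {y : G} (h : Hy Q y) :
    IsMulCommutative (oddCore G) ∧ (¬ Group.IsSolvable G →
      Nonempty (G ≃* MulAut (GL (Fin 3) F ⧸ center (GL (Fin 3) F)))) := by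
  have hO := H1.odd_card_oddCore (G := G)
  have nO : (oddCore G).Normal := inferInstance
  have inv := H95.inverts_of_fixedPointFree (K := oddCore G) h.sq (fun x hx => nO.conj_mem x hx y)
    fun x hx hc => h.eq_one_of_odd hO le_normalizer_of_normal hx hc
  refine ⟨⟨⟨fun p q => Subtype.ext (inv_injective ?_)⟩⟩, fun hs => ?_⟩
  · change ((p : G) * q)⁻¹ = ((q : G) * p)⁻¹
    rw [← inv _ (mul_mem p.2 q.2), ← conj_mul, inv _ p.2, inv _ q.2, mul_inv_rev]
  obtain ⟨α, β, x, hx, rfl⟩ := h.exists_rels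
  obtain ⟨φ, hφ⟩ := exists_hom hx
  have e : φ z = x 0 := hφ 0 (by omega)
  rw [← e] at h inv
  have M := mod_of' h.ne_one h.cardH
  have oz : orderOf (φ z) = 2 := orderOf_eq_prime (by rw [pow_two, h.sq]) h.ne_one
  have iso := fun c => hs (solv_iso oz h.cardH c)
  have hb : ¬ (α = true ∨ β = true) := fun c => iso (isolated M c)
  obtain rfl : α = false := by simpa using fun c => hb (Or.inl c)
  obtain rfl : β = false := by simpa using fun c => hb (Or.inr c)
  have h1 : oddCore G = ⊥ := eq_bot_iff.2 fun p hp => by_contra fun p1 => iso fun g hg => by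
    obtain ⟨w, hw⟩ := M.ran _ hg
    rw [← hw]
    by_contra hne
    have h2 : φ (z * w) ∈ centralizer (oddCore G : Set G) := fun q hq => by
      have e1 := inv _ (nO.conj_mem q hq g⁻¹)
      have e2 := inv _ (inv_mem hq)
      rw [map_mul, hw]
      refine (cj_eq_iff'.1 ?_).symm
      calc φ z * (g * φ z * g⁻¹) * q * (φ z * (g * φ z * g⁻¹))⁻¹
          = φ z * (g * (φ z * (g⁻¹ * q * g⁻¹⁻¹) * (φ z)⁻¹) * g⁻¹) * (φ z)⁻¹ := by group
        _ = φ z * q⁻¹ * (φ z)⁻¹ := by rw [e1]; group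
        _ = q := by rw [e2, inv_inv]
    have h3 := mem_of_normal (fun c => hne (by
      rw [eq_inv_of_mul_eq_one_right c, inv_eq_of_mul_eq_one_right M.sq])) h2
    exact p1 (h.eq_one_of_odd hO le_normalizer_of_normal hp (h3 p hp))
  obtain ⟨f⟩ := good hF M h.cardH h1 hs
  obtain ⟨f'⟩ := aut_psl_pgl (F := F)
  exact ⟨f.trans f'⟩

end H40.E32
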